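import Groth.Agent.ModSite.K291.Colim
import Mathlib.CategoryTheory.Abelian.GrothendieckAxioms.Colim
import Mathlib.CategoryTheory.Sites.EpiMono

/-!
# Flat modules on a ringed site: first properties

* `isFlat_iff_mono`: `F` is flat iff `- ⊗ F` preserves monomorphisms;
* filtered colimits, coproducts, retracts, tensor products of flat modules are flat; the unit is flat;
* `mono_shP_map_iff`: a morphism of presheaves of modules becomes a monomorphism after sheafification iff
  it is locally injective; the same for epimorphisms.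
-/

set_option autoImplicit false

open CategoryTheory MonoidalCategory Limits Opposite

universe w w' v₁ v₂ v₃ u₁ u₂ u₃ u

namespace K291.Flat

open Groth.Agent.Dcoh K291.Mon K291.Colim

/-- A right exact functor which preserves monomorphisms is exact. -/
lemma preservesFiniteLimits_of_mono {A : Type u₁} [Category.{v₁} A] [Abelian A] {B : Type u₂}
    [Category.{v₂} B] [Abelian B] (F : A ⥤ B) [F.Additive] [PreservesFiniteColimits F]
    (hF : ∀ ⦃X Y : A⦄ (f : X ⟶ Y) [Mono f], Mono (F.map f)) :
    PreservesFiniteLimits F := by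
  rw [F.preservesFiniteLimits_iff_forall_exact_map_and_mono]
  intro S hS
  have h := (F.preservesFiniteColimits_iff_forall_exact_map_and_epi).1 inferInstance S hS
  have := hS.mono_f
  exact ⟨h.1, hF _⟩

variable {C : Type u} [SmallCategory C] {J : GrothendieckTopology C} {O : Sheaf J CommRingCat.{u}}

instance additive_flip_obj (F : ModSite.Mod O) : ((ModSite.tensorBi O).flip.obj F).Additive :=
  haveI : ((ModSite.tensorBi O).flip.obj F).IsLeftAdjoint := hasSheafHom F
  haveI : ((ModSite.tensorBi O).flip.obj F).PreservesZeroMorphisms :=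
    Functor.preservesZeroMorphisms_of_isLeftAdjoint _
  haveI := preservesBinaryBiproducts_of_preservesBinaryCoproducts ((ModSite.tensorBi O).flip.obj F)
  Functor.additive_of_preservesBinaryBiproducts _

instance additive_obj (F : ModSite.Mod O) : ((ModSite.tensorBi O).obj F).Additive :=
  haveI : ((ModSite.tensorBi O).obj F).IsLeftAdjoint := isLeftAdjoint_of_preservesColimits _
  haveI : ((ModSite.tensorBi O).obj F).PreservesZeroMorphisms :=
    Functor.preservesZeroMorphisms_of_isLeftAdjoint _
  haveI := preservesBinaryBiproducts_of_preservesBinaryCoproducts ((ModSite.tensorBi O).obj F)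
  Functor.additive_of_preservesBinaryBiproducts _

theorem isFlat_iff (F : ModSite.Mod O) :
    ModSite.IsFlat F ↔ PreservesFiniteLimits ((ModSite.tensorBi O).flip.obj F) :=
  ⟨fun h => h.1, fun h => ⟨h, inferInstance⟩⟩

theorem isFlat_iff_mono (F : ModSite.Mod O) :
    ModSite.IsFlat F ↔ ∀ ⦃A B : ModSite.Mod O⦄ (f : A ⟶ B) [Mono f], Mono (f ▷ F) := by
  rw [isFlat_iff]
  constructor
  · intro h A B f _
    exact inferInstanceAs (Mono (((ModSite.tensorBi O).flip.obj F).map f))
  · intro h
    exact preservesFiniteLimits_of_mono _ h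

theorem isFlat_iff_mono' (F : ModSite.Mod O) :
    ModSite.IsFlat F ↔ ∀ ⦃A B : ModSite.Mod O⦄ (f : A ⟶ B) [Mono f], Mono (F ◁ f) := by
  rw [isFlat_iff_mono]
  refine forall_congr' fun A => forall_congr' fun B => forall_congr' fun f => forall_congr' fun _ => ?_
  have e : F ◁ f = (β_ F A).hom ≫ f ▷ F ≫ (β_ B F).hom := by
    rw [← BraidedCategory.braiding_naturality_right_assoc, SymmetricCategory.symmetry,
      Category.comp_id]
  have e' : f ▷ F = (β_ A F).hom ≫ F ◁ f ≫ (β_ F B).hom := by
    rw [← BraidedCategory.braiding_naturality_left_assoc, SymmetricCategory.symmetry,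
      Category.comp_id]
  constructor
  · intro h
    rw [e]
    infer_instance
  · intro h
    rw [e']
    infer_instance

theorem IsFlat.mono {F : ModSite.Mod O} (h : ModSite.IsFlat F) {A B : ModSite.Mod O} (f : A ⟶ B)
    [Mono f] : Mono (f ▷ F) := (isFlat_iff_mono F).1 h f

theorem IsFlat.mono' {F : ModSite.Mod O} (h : ModSite.IsFlat F) {A B : ModSite.Mod O} (f : A ⟶ B)
    [Mono f] : Mono (F ◁ f) := (isFlat_iff_mono' F).1 h f

theorem isFlat_of_retract {F G : ModSite.Mod O} (r : Retract F G) (hG : ModSite.IsFlat G) :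
    ModSite.IsFlat F := by
  rw [isFlat_iff_mono]
  intro A B f _
  have h1 := IsFlat.mono hG f
  have h2 : Mono (A ◁ r.i) := by
    have : A ◁ r.i ≫ A ◁ r.r = 𝟙 _ := by rw [← whiskerLeft_comp, r.retract, whiskerLeft_id]
    exact mono_of_mono_fac this
  have h3 : f ▷ F ≫ B ◁ r.i = A ◁ r.i ≫ f ▷ G := (whisker_exchange f r.i).symm
  have : Mono (f ▷ F ≫ B ◁ r.i) := by rw [h3]; infer_instance
  exact mono_of_mono (f ▷ F) (B ◁ r.i)

theorem isFlat_of_iso {F G : ModSite.Mod O} (e : F ≅ G) (hG : ModSite.IsFlat G) :
    ModSite.IsFlat F :=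
  isFlat_of_retract (Retract.ofIso e) hG

variable (O) in
theorem isFlat_unit : ModSite.IsFlat (ModSite.unit O) := by
  rw [isFlat_iff_mono]
  intro A B f _
  have : f ▷ 𝟙_ (ModSite.Mod O) = (ρ_ A).hom ≫ f ≫ (ρ_ B).inv := by simp
  change Mono (f ▷ 𝟙_ (ModSite.Mod O))
  rw [this]
  infer_instance

theorem isFlat_tensor {F G : ModSite.Mod O} (hF : ModSite.IsFlat F) (hG : ModSite.IsFlat G) :
    ModSite.IsFlat (F ⊗ G) := by
  rw [isFlat_iff_mono]
  intro A B f _
  have h1 := IsFlat.mono hF f
  have h2 := IsFlat.mono hG (f ▷ F)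
  have : f ▷ (F ⊗ G) = (α_ A F G).inv ≫ (f ▷ F) ▷ G ≫ (α_ B F G).hom := by simp
  rw [this]
  infer_instance

section Colimits

variable {I : Type w} [Category.{w'} I] [HasColimitsOfShape I (ModSite.Mod O)]
  [(colim : (I ⥤ ModSite.Mod O) ⥤ ModSite.Mod O).PreservesMonomorphisms]

/-- Exact colimits of flat modules are flat. -/
theorem isFlat_of_isColimit {D : I ⥤ ModSite.Mod O} (hD : ∀ i, ModSite.IsFlat (D.obj i)) {c : Cocone D}
    (hc : IsColimit c) [∀ A : ModSite.Mod O, PreservesColimitsOfShape I (tensorLeft A)] :
    ModSite.IsFlat c.pt := by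
  rw [isFlat_iff_mono]
  intro A B f _
  have hA := isColimitOfPreserves (tensorLeft A) hc
  have hB := isColimitOfPreserves (tensorLeft B) hc
  let φ : D ⋙ tensorLeft A ⟶ D ⋙ tensorLeft B :=
    { app := fun i => f ▷ D.obj i
      naturality := fun i j g => whisker_exchange f (D.map g) }
  have : ∀ i, Mono (φ.app i) := fun i => IsFlat.mono (hD i) f
  have : Mono φ := NatTrans.mono_of_mono_app φ
  exact colim.map_mono' φ hA hB (f ▷ c.pt) (fun i => whisker_exchange f (c.ι.app i))

end Colimits

theorem isFlat_of_isColimit_filtered {I : Type u} [SmallCategory I] [IsFiltered I]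
    (D : I ⥤ ModSite.Mod O) (hD : ∀ i, ModSite.IsFlat (D.obj i)) (c : Cocone D) (hc : IsColimit c) :
    ModSite.IsFlat c.pt := by
  have := isGrothendieckAbelian O
  have h1 : HasExactColimitsOfShape I (ModSite.Mod O) := inferInstance
  have h2 : (colim : (I ⥤ ModSite.Mod O) ⥤ ModSite.Mod O).PreservesMonomorphisms := inferInstance
  have h3 : ∀ A : ModSite.Mod O, PreservesColimitsOfShape I (tensorLeft A) := fun A => inferInstance
  exact isFlat_of_isColimit (I := I) hD hc

theorem isFlat_of_isColimit_cofan {ι : Type u} {F : ι → ModSite.Mod O} (hF : ∀ i, ModSite.IsFlat (F i))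
    (c : Cofan F) (hc : IsColimit c) : ModSite.IsFlat c.pt := by
  have := isGrothendieckAbelian O
  have h1 : HasExactColimitsOfShape (Discrete ι) (ModSite.Mod O) := inferInstance
  have h2 : (colim : (Discrete ι ⥤ ModSite.Mod O) ⥤ ModSite.Mod O).PreservesMonomorphisms :=
    inferInstance
  have h3 : ∀ A : ModSite.Mod O, PreservesColimitsOfShape (Discrete ι) (tensorLeft A) :=
    fun A => inferInstance
  exact isFlat_of_isColimit (I := Discrete ι) (D := Discrete.functor F) (fun i => hF i.as) hc

theorem isFlat_sigma {ι : Type u} (F : ι → ModSite.Mod O) (hF : ∀ i, ModSite.IsFlat (F i)) :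
    ModSite.IsFlat (∐ F) :=
  isFlat_of_isColimit_cofan hF _ (colimit.isColimit _)

section LocInj

variable (O) in
/-- The underlying abelian sheaf. -/
noncomputable abbrev toShf : ModSite.Mod O ⥤ Sheaf J AddCommGrpCat.{u} :=
  SheafOfModules.toSheaf.{u} (ModSite.ringSh O)

variable (O) in
/-- The underlying abelian presheaf. -/
noncomputable def toPsh : PM O ⥤ (Cᵒᵖ ⥤ AddCommGrpCat.{u}) :=
  PresheafOfModules.toPresheaf (O.obj ⋙ forget₂ CommRingCat.{u} RingCat.{u})

variable (O) in
/-- The underlying abelian sheaf functor, with the sheafification square. -/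
noncomputable def shPToSheaf : shP O ⋙ toShf O ≅
    toPsh O ⋙ presheafToSheaf J AddCommGrpCat.{u} :=
  Iso.refl _

instance preservesColimits_toPsh : PreservesColimitsOfSize.{u, u} (toPsh O) :=
  inferInstanceAs (PreservesColimitsOfSize.{u, u}
    (PresheafOfModules.toPresheaf.{u} (O.obj ⋙ forget₂ CommRingCat.{u} RingCat.{u})))

instance preservesColimits_toSheaf : PreservesColimitsOfSize.{u, u}
    (toShf O) where
  preservesColimitsOfShape {I _} := by
    have h1 : PreservesColimitsOfShape I (toPsh O) := inferInstance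
    have h2 : PreservesColimitsOfSize.{u, u} (presheafToSheaf J AddCommGrpCat.{u}) :=
      (sheafificationAdjunction J AddCommGrpCat.{u}).leftAdjoint_preservesColimits
    have h3 : PreservesColimitsOfShape I (presheafToSheaf J AddCommGrpCat.{u}) := inferInstance
    have h4 : PreservesColimitsOfShape I (toPsh O ⋙ presheafToSheaf J AddCommGrpCat.{u}) :=
      comp_preservesColimitsOfShape _ _
    have : PreservesColimitsOfShape I (shP O ⋙ toShf O) :=
      preservesColimitsOfShape_of_natIso (shPToSheaf O).symm
    exact preservesColimitsOfShape_of_refl (shAdj O) I _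

instance preservesFiniteColimits_toSheaf : PreservesFiniteColimits
    (toShf O) :=
  PreservesColimitsOfSize.preservesFiniteColimits.{u, u} _

instance reflectsMono_toSheaf : (toShf O).ReflectsMonomorphisms :=
  Functor.reflectsMonomorphisms_of_faithful _

instance reflectsEpi_toSheaf : (toShf O).ReflectsEpimorphisms :=
  Functor.reflectsEpimorphisms_of_faithful _

instance preservesEpi_toSheaf : (toShf O).PreservesEpimorphisms :=
  haveI : PreservesColimitsOfShape WalkingSpan (toShf O) :=
    PreservesFiniteColimits.preservesFiniteColimits _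
  preservesEpimorphisms_of_preservesColimitsOfShape _

theorem mono_iff_toSheaf {F G : ModSite.Mod O} (f : F ⟶ G) :
    Mono f ↔ Mono ((toShf O).map f) :=
  ⟨fun _ => inferInstance, fun h => (toShf O).mono_of_mono_map h⟩

theorem epi_iff_toSheaf {F G : ModSite.Mod O} (f : F ⟶ G) :
    Epi f ↔ Epi ((toShf O).map f) :=
  ⟨fun _ => inferInstance, fun h => (toShf O).epi_of_epi_map h⟩

theorem ab_mono_iff {F G : Sheaf J AddCommGrpCat.{u}} (f : F ⟶ G) :
    Mono f ↔ Sheaf.IsLocallyInjective f := by
  constructor
  · intro _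
    rw [Sheaf.isLocallyInjective_iff_injective]
    intro X
    have : Mono ((sheafToPresheaf J AddCommGrpCat.{u}).map f) := inferInstance
    have h := (NatTrans.mono_iff_mono_app _).1 this X
    exact (AddCommGrpCat.mono_iff_injective _).1 h
  · intro _
    exact Sheaf.mono_of_isLocallyInjective f

/-- A morphism of presheaves of modules becomes mono after sheafification iff it is locally
injective. -/
theorem mono_shP_map_iff {P Q : PM O} (f : P ⟶ Q) :
    Mono ((shP O).map f) ↔
      Presheaf.IsLocallyInjective J ((PresheafOfModules.toPresheaf _).map f) := by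
  rw [mono_iff_toSheaf, ab_mono_iff]
  exact Presheaf.isLocallyInjective_presheafToSheaf_map_iff J ((PresheafOfModules.toPresheaf _).map f)

/-- A morphism of presheaves of modules becomes epi after sheafification iff it is locally
surjective. -/
theorem epi_shP_map_iff {P Q : PM O} (f : P ⟶ Q) :
    Epi ((shP O).map f) ↔
      Presheaf.IsLocallySurjective J ((PresheafOfModules.toPresheaf _).map f) := by
  rw [epi_iff_toSheaf, ← Sheaf.isLocallySurjective_iff_epi']
  exact Presheaf.isLocallySurjective_presheafToSheaf_map_iff J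
    ((PresheafOfModules.toPresheaf _).map f)

/-- Monomorphisms of modules are the sectionwise injective morphisms. -/
theorem mono_iff_injective {F G : ModSite.Mod O} (f : F ⟶ G) :
    Mono f ↔ ∀ U : C, Function.Injective (f.val.app (op U)).hom := by
  rw [mono_iff_toSheaf, ab_mono_iff, Sheaf.isLocallyInjective_iff_injective]
  exact ⟨fun h U => h (op U), fun h U => h U.unop⟩

/-- Epimorphisms of modules are the locally surjective morphisms. -/
theorem epi_iff_locallySurjective {F G : ModSite.Mod O} (f : F ⟶ G) :
    Epi f ↔ Presheaf.IsLocallySurjective J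
      ((PresheafOfModules.toPresheaf _).map ((toP O).map f)) := by
  rw [epi_iff_toSheaf, ← Sheaf.isLocallySurjective_iff_epi']
  rfl

end LocInj

end K291.Flat
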