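import Groth.Agent.ModSite.K291.Mon
import Mathlib.CategoryTheory.Adjunction.AdjointFunctorTheorems
import Mathlib.CategoryTheory.Abelian.Subobject
import Groth.Agent.S0484

/-!
# The tensor product of modules on a ringed site preserves colimits in each variable

* `preservesColimitsOfShape_of_refl`: colimits are preserved by `F` as soon as they are by `L ⋙ F`, for
  `L` a reflector;
* `tensorBi O` preserves colimits in each variable, hence (special adjoint functor theorem) has
  right adjoints;
* flatness: `IsFlat F` iff `- ⊗ F` preserves monomorphisms.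
-/

set_option autoImplicit false

open CategoryTheory MonoidalCategory Limits Opposite

universe w w' v₁ v₂ v₃ u₁ u₂ u₃ u

namespace K291.Colim

open Groth.Agent.Dcoh K291.Mon

section Refl

variable {A : Type u₁} {B : Type u₂} {E : Type u₃} [Category.{v₁} A] [Category.{v₂} B]
  [Category.{v₃} E] {L : A ⥤ B} {R : B ⥤ A} (adj : L ⊣ R) [IsIso adj.counit]

include adj in
/-- Colimits in a reflective subcategory are preserved by `F` if `L ⋙ F` preserves colimits. -/
theorem preservesColimitsOfShape_of_refl (I : Type w) [Category.{w'} I] [HasColimitsOfShape I A]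
    (F : B ⥤ E) [PreservesColimitsOfShape I (L ⋙ F)] : PreservesColimitsOfShape I F where
  preservesColimit {K} := by
    let c₀ := colimit.cocone (K ⋙ R)
    let hc₀ : IsColimit c₀ := colimit.isColimit (K ⋙ R)
    have := adj.leftAdjoint_preservesColimits
    let e : (K ⋙ R) ⋙ L ≅ K := (Functor.associator _ _ _) ≪≫ Functor.isoWhiskerLeft K (asIso adj.counit) ≪≫
      K.rightUnitor
    let hc : IsColimit ((Cocone.precompose e.inv).obj (L.mapCocone c₀)) :=
      (IsColimit.precomposeInvEquiv e _).symm (isColimitOfPreserves L hc₀)
    refine preservesColimit_of_preserves_colimit_cocone hc ?_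
    let e' : (K ⋙ R) ⋙ (L ⋙ F) ≅ K ⋙ F := Functor.isoWhiskerRight e F
    let hc' : IsColimit ((Cocone.precompose e'.inv).obj ((L ⋙ F).mapCocone c₀)) :=
      (IsColimit.precomposeInvEquiv e' _).symm (isColimitOfPreserves (L ⋙ F) hc₀)
    exact hc'.ofIsoColimit (Cocone.ext (Iso.refl _) (fun i => by simp [e', e]))

end Refl

variable {C : Type u} [SmallCategory C] {J : GrothendieckTopology C} {O : Sheaf J CommRingCat.{u}}

/-- `shP(P) ⊗ N ≅ shP(P ⊗ N)`. -/
noncomputable def shTensorRightIso (N : ModSite.Mod O) :
    shP O ⋙ tensorRight N ≅ tensorRight ((toP O).obj N) ⋙ shP O :=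
  Functor.isoWhiskerLeft (shP O) ((tensoringRight (ModSite.Mod O)).mapIso
      ((asIso (shAdj O).counit).app N).symm) ≪≫
    NatIso.ofComponents (fun P => Functor.Monoidal.μIso (shP O) P ((toP O).obj N))
      (fun f => Functor.LaxMonoidal.μ_natural_left (shP O) f ((toP O).obj N))

instance preservesColimits_tensorRight (N : ModSite.Mod O) :
    PreservesColimitsOfSize.{u, u} (tensorRight N) where
  preservesColimitsOfShape {I _} := by
    have h1 : PreservesColimitsOfSize.{u, u} (tensorRight ((toP O).obj N)) :=
      inferInstanceAs (PreservesColimitsOfSize.{u, u} (tensorRight ((toP O).obj N : PM O)))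
    have h2 : PreservesColimitsOfSize.{u, u} (shP O) := (shAdj O).leftAdjoint_preservesColimits
    have : PreservesColimitsOfShape I (shP O ⋙ tensorRight N) :=
      preservesColimitsOfShape_of_natIso (shTensorRightIso N).symm
    exact preservesColimitsOfShape_of_refl (shAdj O) I (tensorRight N)

instance preservesColimits_tensorLeft (N : ModSite.Mod O) :
    PreservesColimitsOfSize.{u, u} (tensorLeft N) :=
  preservesColimits_of_natIso (BraidedCategory.tensorLeftIsoTensorRight N).symm

instance preservesColimits_obj (N : ModSite.Mod O) :
    PreservesColimitsOfSize.{u, u} ((ModSite.tensorBi O).obj N) :=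
  preservesColimits_of_natIso (objIso O N).symm

instance preservesColimits_flip_obj (N : ModSite.Mod O) :
    PreservesColimitsOfSize.{u, u} ((ModSite.tensorBi O).flip.obj N) :=
  preservesColimits_of_natIso (flipObjIso O N).symm

instance preservesFiniteColimits_obj (N : ModSite.Mod O) :
    PreservesFiniteColimits ((ModSite.tensorBi O).obj N) :=
  PreservesColimitsOfSize.preservesFiniteColimits.{u, u} _

instance preservesFiniteColimits_flip_obj (N : ModSite.Mod O) :
    PreservesFiniteColimits ((ModSite.tensorBi O).flip.obj N) :=
  PreservesColimitsOfSize.preservesFiniteColimits.{u, u} _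

/-- Modules on a ringed site form a Grothendieck abelian category. -/
theorem isGrothendieckAbelian (O : Sheaf J CommRingCat.{u}) :
    IsGrothendieckAbelian.{u} (ModSite.Mod O) :=
  Groth.Agent.S0484.result J (ModSite.ringSh O)

/-- A functor on `Mod O` preserving colimits has a right adjoint. -/
theorem isLeftAdjoint_of_preservesColimits {E : Type u₁} [Category.{u} E]
    (F : ModSite.Mod O ⥤ E) [PreservesColimitsOfSize.{u, u} F] : F.IsLeftAdjoint := by
  have := isGrothendieckAbelian O
  have : WellPowered.{u} (ModSite.Mod O) := inferInstance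
  have : LocallySmall.{u} (ModSite.Mod O) := inferInstance
  have : WellPowered.{u} (ModSite.Mod O)ᵒᵖ := inferInstance
  exact isLeftAdjoint_of_preservesColimits_of_isSeparating (isSeparator_separator (ModSite.Mod O)) F

theorem hasSheafHom (N : ModSite.Mod O) : ModSite.HasSheafHom N :=
  isLeftAdjoint_of_preservesColimits _

end K291.Colim
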