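import Groth.Agent.ModSite.K291.Shriek

/-!
# Extension by zero of modules: exactness, naturality of the projection formula, flatness

* `extZero` preserves monomorphisms, is exact, is faithful;
* `proj_natural_right`: naturality in the second variable of the projection formula;
* `isFlat_extZero`, `isFlat_freeOn`, `isFlat_restr`.
-/

set_option autoImplicit false

open CategoryTheory MonoidalCategory Limits Opposite DirectSum

universe w w' v₁ v₂ v₃ u₁ u₂ u₃ u

namespace K291.Shriek

open Groth.Agent.Dcoh K291.Mon K291.Colim K291.Flat K291.FreeOn K291.Restr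
open Groth.Agent.Sga4A

variable {C : Type u} [SmallCategory C] {J : GrothendieckTopology C}
  {O : Sheaf J CommRingCat.{u}} {X : C}

theorem shTRI_app (N : ModSite.Mod O) (P : PM O) : (shTensorRightIso N).hom.app P =
    (shP O).obj P ◁ ((asIso (shAdj O).counit).inv.app N) ≫
      Functor.LaxMonoidal.μ (shP O) P ((toP O).obj N) := rfl

theorem shTRI_natural {N N' : ModSite.Mod O} (g : N ⟶ N') (P : PM O) :
    (shTensorRightIso N).hom.app P ≫ (shP O).map (P ◁ (toP O).map g) =
      (shP O).obj P ◁ g ≫ (shTensorRightIso N').hom.app P := by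
  have h := (asIso (shAdj O).counit).inv.naturality g
  dsimp only [Functor.id_map, Functor.comp_map] at h
  rw [shTRI_app, shTRI_app, Category.assoc, ← Functor.LaxMonoidal.μ_natural_right,
    ← MonoidalCategory.whiskerLeft_comp_assoc, ← MonoidalCategory.whiskerLeft_comp_assoc]
  congr 2
  exact h.symm

theorem projSh_app (N : ModSite.Mod O) (P : PM (O.over X)) : (projSh O X N).hom.app P =
    (ModSite.extZero O X).map ((shTensorRightIso ((ModSite.restr O X).obj N)).hom.app P) ≫
      (shShriek O X).hom.app (P ⊗ (preR O X).obj ((toP O).obj N)) ≫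
      (shP O).map (projPre P ((toP O).obj N)) ≫
      (shTensorRightIso N).inv.app ((preS O X).obj P) ≫
      (shShriek O X).inv.app P ▷ N := by
  simp only [projSh, Iso.trans_hom, NatTrans.comp_app, Functor.isoWhiskerRight_hom,
    Functor.whiskerRight_app, Functor.associator_hom_app, Functor.isoWhiskerLeft_hom,
    Functor.whiskerLeft_app, Iso.symm_hom, Functor.associator_inv_app, Category.id_comp,
    Category.assoc, Category.comp_id]
  rfl

theorem projSh_natural_right {N N' : ModSite.Mod O} (g : N ⟶ N') (P : PM (O.over X)) :
    (ModSite.extZero O X).map ((shP (O.over X)).obj P ◁ (ModSite.restr O X).map g) ≫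
      (projSh O X N').hom.app P =
    (projSh O X N).hom.app P ≫ (ModSite.extZero O X).obj ((shP (O.over X)).obj P) ◁ g := by
  rw [projSh_app, projSh_app, ← Functor.map_comp_assoc]
  have h1 := shTRI_natural ((ModSite.restr O X).map g) P
  rw [← h1, Functor.map_comp_assoc]
  have h2 := (shShriek O X).hom.naturality (P ◁ (toP (O.over X)).map ((ModSite.restr O X).map g))
  dsimp only [Functor.comp_map] at h2
  rw [Category.assoc, Category.assoc, Category.assoc, Category.assoc]
  congr 1
  refine ((reassoc_of% h2) _).trans ?_
  congr 1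
  have h3 := projPre_natural_right P ((toP O).map g)
  have h3' : (shP O).map ((preS O X).map (P ◁ (preR O X).map ((toP O).map g))) ≫
      (shP O).map (projPre P ((toP O).obj N')) =
      (shP O).map (projPre P ((toP O).obj N)) ≫ (shP O).map ((preS O X).obj P ◁ (toP O).map g) := by
    rw [← Functor.map_comp, h3, Functor.map_comp]
  have h4 := shTRI_natural g ((preS O X).obj P)
  have h5 : (shP O).map ((preS O X).obj P ◁ (toP O).map g) ≫
      (shTensorRightIso N').inv.app ((preS O X).obj P) =
      (shTensorRightIso N).inv.app ((preS O X).obj P) ≫ (shP O).obj ((preS O X).obj P) ◁ g := by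
    rw [← cancel_epi ((shTensorRightIso N).hom.app ((preS O X).obj P)), reassoc_of% h4,
      Iso.hom_inv_id_app_assoc, Iso.hom_inv_id_app]
    exact Category.comp_id _
  refine ((reassoc_of% h3') _).trans ?_
  rw [reassoc_of% h5]
  congr 2
  exact whisker_exchange ((shShriek O X).inv.app P) g

theorem proj_app (N : ModSite.Mod O) (P : ModSite.Mod (O.over X)) : (proj O X N).hom.app P =
    (ModSite.extZero O X).map ((toShIso (O.over X)).inv.app P ▷ (ModSite.restr O X).obj N) ≫
      (projSh O X N).hom.app ((toP (O.over X)).obj P) ≫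
      (ModSite.extZero O X).map ((toShIso (O.over X)).hom.app P) ▷ N := by
  simp only [proj, Iso.trans_hom, NatTrans.comp_app, Functor.isoWhiskerRight_hom,
    Functor.whiskerRight_app, Functor.associator_hom_app, Functor.isoWhiskerLeft_hom,
    Functor.whiskerLeft_app, Iso.symm_hom, Functor.leftUnitor_inv_app, Functor.leftUnitor_hom_app,
    Functor.associator_inv_app, Category.id_comp, Category.comp_id]
  rfl

theorem proj_natural_right {N N' : ModSite.Mod O} (g : N ⟶ N') (P : ModSite.Mod (O.over X)) :
    (ModSite.extZero O X).map (P ◁ (ModSite.restr O X).map g) ≫ (proj O X N').hom.app P =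
      (proj O X N).hom.app P ≫ (ModSite.extZero O X).obj P ◁ g := by
  have h1 := projSh_natural_right g ((toP (O.over X)).obj P)
  have h2 : (ModSite.extZero O X).map (P ◁ (ModSite.restr O X).map g) ≫
      (ModSite.extZero O X).map ((toShIso (O.over X)).inv.app P ▷ (ModSite.restr O X).obj N') =
      (ModSite.extZero O X).map ((toShIso (O.over X)).inv.app P ▷ (ModSite.restr O X).obj N) ≫
      (ModSite.extZero O X).map
        ((shP (O.over X)).obj ((toP (O.over X)).obj P) ◁ (ModSite.restr O X).map g) := by
    rw [← Functor.map_comp, ← Functor.map_comp]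
    congr 1
    exact whisker_exchange _ _
  rw [proj_app, proj_app]
  refine ((reassoc_of% h2) _).trans ?_
  rw [Category.assoc, Category.assoc]
  congr 1
  refine ((reassoc_of% h1) _).trans ?_
  congr 1
  exact whisker_exchange _ _

theorem proj_inv_natural_right {N N' : ModSite.Mod O} (g : N ⟶ N') (P : ModSite.Mod (O.over X)) :
    (proj O X N).inv.app P ≫ (ModSite.extZero O X).map (P ◁ (ModSite.restr O X).map g) =
      (ModSite.extZero O X).obj P ◁ g ≫ (proj O X N').inv.app P := by
  have h := proj_natural_right g P
  rw [← cancel_epi ((proj O X N).hom.app P), Iso.hom_inv_id_app_assoc]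
  have h2 : ((ModSite.extZero O X).map (P ◁ (ModSite.restr O X).map g) ≫
      (proj O X N').hom.app P) ≫ (proj O X N').inv.app P =
      ((proj O X N).hom.app P ≫ (ModSite.extZero O X).obj P ◁ g) ≫ (proj O X N').inv.app P := by
    rw [h]
  rw [Category.assoc, Iso.hom_inv_id_app, Category.assoc] at h2
  exact (Category.comp_id _).symm.trans h2

/-- The comparison isomorphism `P ↦ j_! P` for presheaves, on morphisms. -/
theorem extZero_map_eq {F G : ModSite.Mod (O.over X)} (f : F ⟶ G) :
    (ModSite.extZero O X).map f = (extZeroIso O X).hom.app F ≫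
      (shP O).map ((preS O X).map ((toP (O.over X)).map f)) ≫ (extZeroIso O X).inv.app G := by
  have h : (ModSite.extZero O X).map f ≫ (extZeroIso O X).hom.app G =
      (extZeroIso O X).hom.app F ≫ (shP O).map ((preS O X).map ((toP (O.over X)).map f)) :=
    (extZeroIso O X).hom.naturality f
  rw [← reassoc_of% h, Iso.hom_inv_id_app]
  exact (Category.comp_id _).symm

instance extZero_preservesMono : (ModSite.extZero O X).PreservesMonomorphisms where
  preserves {F G} f _ := by
    have h : Mono ((shP O).map ((preS O X).map ((toP (O.over X)).map f))) := by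
      rw [mono_shP_map_iff]
      apply Presheaf.isLocallyInjective_of_injective
      intro U
      exact ModShriek.shMapApp_injective (R := O.obj ⋙ forget₂ CommRingCat.{u} RingCat.{u})
        ((toP (O.over X)).map f) (fun Y => (mono_iff_injective f).1 inferInstance Y.unop) U
    rw [extZero_map_eq]
    infer_instance

instance extZero_preservesFiniteColimits : PreservesFiniteColimits (ModSite.extZero O X) :=
  haveI := (ModSite.extZeroAdj O X).leftAdjoint_preservesColimits
  PreservesColimitsOfSize.preservesFiniteColimits.{u, u} _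

instance extZero_additive : (ModSite.extZero O X).Additive :=
  haveI : (ModSite.extZero O X).IsLeftAdjoint := (ModSite.extZeroAdj O X).isLeftAdjoint
  haveI : (ModSite.extZero O X).PreservesZeroMorphisms :=
    Functor.preservesZeroMorphisms_of_isLeftAdjoint _
  haveI := preservesBinaryBiproducts_of_preservesBinaryCoproducts (ModSite.extZero O X)
  Functor.additive_of_preservesBinaryBiproducts _

instance extZero_preservesFiniteLimits : PreservesFiniteLimits (ModSite.extZero O X) :=
  preservesFiniteLimits_of_mono _ (fun _ _ _ _ => inferInstance)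

/-- A morphism of presheaves of modules which becomes zero after sheafification is locally zero. -/
theorem locally_zero {A B : PM O} (φ : A ⟶ B) (h : (shP O).map φ = 0) (U : C) (x : A.obj (op U)) :
    ∃ S ∈ J U, ∀ ⦃V : C⦄ (i : V ⟶ U), S i → MonW.res B i.op (MonW.sec φ (op U) x) = 0 := by
  have h1 : φ ≫ (shAdj O).unit.app B = 0 := by
    have := (shAdj O).unit.naturality φ
    rw [Functor.id_map, Functor.comp_map, h, Functor.map_zero, comp_zero] at this
    exact this
  have h2 := WO_unit O B
  change J.W _ at h2
  rw [GrothendieckTopology.W_iff_isLocallyBijective] at h2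
  have h3 := (MonW.isLocallyInjective_iff ((shAdj O).unit.app B)).1 h2.1
  refine h3 U (MonW.sec φ (op U) x) ?_
  have h4 := congrArg (fun t : A ⟶ _ => MonW.sec t (op U) x) h1
  exact h4

instance extZero_faithful : (ModSite.extZero O X).Faithful where
  map_injective {F G} f g hfg := by
    rw [← sub_eq_zero]
    have h0 : (ModSite.extZero O X).map (f - g) = 0 := by
      rw [Functor.map_sub, hfg, sub_self]
    generalize f - g = k at h0 ⊢
    have h1 : (shP O).map ((preS O X).map ((toP (O.over X)).map k)) = 0 := by
      rw [extZero_map_eq] at h0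
      rw [← cancel_epi ((extZeroIso O X).hom.app F), ← cancel_mono ((extZeroIso O X).inv.app G),
        Category.assoc]
      refine h0.trans ?_
      rw [comp_zero, zero_comp]
    apply hom_ext
    intro Y m
    obtain ⟨S, hS, H⟩ := locally_zero _ h1 Y.left (ofP ((toP (O.over X)).obj F) (op Y.left) Y.hom m)
    refine sect_ext G ((Sieve.overEquiv Y).symm S) (J.overEquiv_symm_mem_over Y S hS) ?_
    intro Z i hi
    rw [Sieve.overEquiv_symm_iff] at hi
    have h2 := H i.left hi
    have h3 : MonW.sec ((preS O X).map ((toP (O.over X)).map k)) (op Y.left)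
        (ofP ((toP (O.over X)).obj F) (op Y.left) Y.hom m) =
        ofP ((toP (O.over X)).obj G) (op Y.left) Y.hom (sc k Y m) :=
      ModShriek.shMapApp_of (R := O.obj ⋙ forget₂ CommRingCat.{u} RingCat.{u})
        ((toP (O.over X)).map k) (op Y.left) Y.hom m
    rw [h3] at h2
    have h4 : MonW.res ((preS O X).obj ((toP (O.over X)).obj G)) i.left.op
        (ofP ((toP (O.over X)).obj G) (op Y.left) Y.hom (sc k Y m)) =
        ofP ((toP (O.over X)).obj G) (op Z.left) (i.left ≫ Y.hom)
          (rs G (Over.homMk i.left : Over.mk (i.left ≫ Y.hom) ⟶ Over.mk Y.hom) (sc k Y m)) :=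
      ModShriek.res_of (R := O.obj ⋙ forget₂ CommRingCat.{u} RingCat.{u})
        ((toP (O.over X)).obj G) i.left.op Y.hom (sc k Y m)
    rw [h4] at h2
    have h5 : rs G (Over.homMk i.left : Over.mk (i.left ≫ Y.hom) ⟶ Over.mk Y.hom) (sc k Y m) = 0 :=
      ModShriek.of_injective (R := O.obj ⋙ forget₂ CommRingCat.{u} RingCat.{u})
        ((toP (O.over X)).obj G) (op Z.left) (i.left ≫ Y.hom) (h2.trans (map_zero _).symm)
    let e : Z ⟶ Over.mk (i.left ≫ Y.hom) := Over.homMk (𝟙 _) (by simp)
    have h6 : i = e ≫ (Over.homMk i.left : Over.mk (i.left ≫ Y.hom) ⟶ Over.mk Y.hom) :=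
      Over.OverMorphism.ext (by simp [e])
    have h7 : rs G i (sc k Y m) = 0 := by
      have h8 := rs_comp G (Over.homMk i.left : Over.mk (i.left ≫ Y.hom) ⟶ Over.mk Y.hom) e (sc k Y m)
      rw [h5, map_zero] at h8
      rw [h6]
      exact h8.symm
    rw [h7]
    exact (map_zero _).symm

theorem isFlat_extZero {M : ModSite.Mod (O.over X)} (hM : ModSite.IsFlat M) :
    ModSite.IsFlat ((ModSite.extZero O X).obj M) := by
  rw [isFlat_iff_mono']
  intro A B f _
  have h1 : Mono ((ModSite.restr O X).map f) := inferInstance
  have h2 := IsFlat.mono' hM ((ModSite.restr O X).map f)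
  have h3 := proj_natural_right f M
  have h4 : (ModSite.extZero O X).obj M ◁ f = (proj O X A).inv.app M ≫
      (ModSite.extZero O X).map (M ◁ (ModSite.restr O X).map f) ≫ (proj O X B).hom.app M := by
    rw [h3, Iso.inv_hom_id_app_assoc]
  rw [h4]
  infer_instance

variable (O X) in
theorem isFlat_freeOn : ModSite.IsFlat (ModSite.freeOn O X) :=
  isFlat_extZero (isFlat_unit (O.over X))

theorem isFlat_restr {M : ModSite.Mod O} (hM : ModSite.IsFlat M) :
    ModSite.IsFlat ((ModSite.restr O X).obj M) := by
  rw [isFlat_iff_mono]
  intro A B f _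
  have h1 : Mono ((ModSite.extZero O X).map f) := inferInstance
  have h2 := IsFlat.mono hM ((ModSite.extZero O X).map f)
  have h3 : (ModSite.extZero O X).map (f ▷ (ModSite.restr O X).obj M) =
      (proj O X M).hom.app A ≫ (ModSite.extZero O X).map f ▷ M ≫ (proj O X M).inv.app B := by
    have h := (proj O X M).hom.naturality f
    have h' : (ModSite.extZero O X).map (f ▷ (ModSite.restr O X).obj M) ≫ (proj O X M).hom.app B =
      (proj O X M).hom.app A ≫ (ModSite.extZero O X).map f ▷ M := h
    rw [← reassoc_of% h', Iso.hom_inv_id_app]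
    exact (Category.comp_id _).symm
  have h4 : Mono ((ModSite.extZero O X).map (f ▷ (ModSite.restr O X).obj M)) := by
    rw [h3]
    infer_instance
  exact (ModSite.extZero O X).mono_of_mono_map h4

end K291.Shriek
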