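import Groth.Agent.ModSite.K291.FrTens

/-!
# Section calculus for the associator and unitors of modules on a ringed site

* `sc_assoc_tm`, `sc_leftUnitor_tm`, `sc_rightUnitor_tm`;
* `tens3_hom_ext`: morphisms out of `(M ⊗ N) ⊗ P` are determined on pure tensors.
-/

set_option autoImplicit false

open CategoryTheory MonoidalCategory Limits Opposite

universe w w' v₁ v₂ v₃ u₁ u₂ u₃ u

namespace K291.Tens

open Groth.Agent.Dcoh K291.Mon K291.Colim K291.Flat K291.FreeOn

variable {C : Type u} [SmallCategory C] {J : GrothendieckTopology C} {O : Sheaf J CommRingCat.{u}}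

theorem sc_δ {P Q : PM O} {U : C} (p : P.obj (op U)) (q : Q.obj (op U)) :
    sc (Functor.OplaxMonoidal.δ (shP O) P Q) U (shs (ptm p q)) = tm (shs p) (shs q) :=
  sc_shTens p q

/-- The counit. -/
noncomputable def cu (M : ModSite.Mod O) : (shP O).obj ((toP O).obj M) ⟶ M := (shAdj O).counit.app M

/-- A section of `M`, seen as a section of `sh (toP M)`. -/
noncomputable def us {M : ModSite.Mod O} {U : C} (m : ModSite.sect M U) :
    ModSite.sect ((shP O).obj ((toP O).obj M)) U := shs (P := (toP O).obj M) m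

theorem sc_cu {M : ModSite.Mod O} {U : C} (m : ModSite.sect M U) : sc (cu M) U (us m) = m := by
  have h := (shAdj O).right_triangle_components M
  exact congrArg (fun t => MonW.sec t (op U) m) h

variable {M N P Q : ModSite.Mod O}

theorem sec_associator {A B D : PM O} {U : Cᵒᵖ} (a : A.obj U) (b : B.obj U) (d : D.obj U) :
    MonW.sec (α_ A B D).hom U (ptm (ptm a b) d) = ptm a (ptm b d) := rfl

theorem sec_leftUnitor {A : PM O} {U : Cᵒᵖ} (r : O.obj.obj U) (a : A.obj U) :
    MonW.sec (λ_ A).hom U (ptm (A := 𝟙_ (PM O)) r a) = r • a := rfl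

theorem sc_assoc_shs {A B D : PM O} {U : C} (a : A.obj (op U)) (b : B.obj (op U)) (d : D.obj (op U)) :
    sc (α_ ((shP O).obj A) ((shP O).obj B) ((shP O).obj D)).hom U (tm (tm (shs a) (shs b)) (shs d)) =
      tm (shs a) (tm (shs b) (shs d)) := by
  have h := Functor.OplaxMonoidal.associativity (shP O) A B D
  have h2 := congrArg (fun t => sc t U (shs (ptm (ptm a b) d))) h
  simp only [sc_comp, sc_δ, sc_whiskerRight_tm, sc_shP_map, sec_associator, sc_whiskerLeft_tm] at h2
  exact h2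

theorem sc_assoc_us {U : C} (m : ModSite.sect M U) (n : ModSite.sect N U) (p : ModSite.sect P U) :
    sc (α_ ((shP O).obj ((toP O).obj M)) ((shP O).obj ((toP O).obj N)) ((shP O).obj ((toP O).obj P))).hom U
      (tm (tm (us m) (us n)) (us p)) = tm (us m) (tm (us n) (us p)) :=
  sc_assoc_shs (A := (toP O).obj M) (B := (toP O).obj N) (D := (toP O).obj P) m n p

theorem sc_assoc_tm {U : C} (m : ModSite.sect M U) (n : ModSite.sect N U) (p : ModSite.sect P U) :
    sc (α_ M N P).hom U (tm (tm m n) p) = tm m (tm n p) := by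
  have h2 := congrArg (fun t => sc t U (tm (tm (us m) (us n)) (us p)))
    (associator_naturality (cu M) (cu N) (cu P))
  simp only [sc_comp, sc_tensor_tm, sc_cu, sc_assoc_us] at h2
  exact h2

section Unit

/-- A section of the structure sheaf, as a section of the unit module. -/
noncomputable def ofR {U : C} (r : Rg O U) : ModSite.sect (𝟙_ (ModSite.Mod O)) U := r

theorem ofR_add {U : C} (r r' : Rg O U) : (ofR (r + r') : ModSite.sect (𝟙_ (ModSite.Mod O)) U) = ofR r + ofR r' := rfl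

theorem ofR_smul {U : C} (r r' : Rg O U) :
    (ofR (r * r') : ModSite.sect (𝟙_ (ModSite.Mod O)) U) = r • ofR r' := rfl

theorem rs_ofR {U V : C} (f : V ⟶ U) (r : Rg O U) :
    rs (𝟙_ (ModSite.Mod O)) f (ofR r) = ofR (rr O f r) := rfl

theorem exists_ofR {U : C} (s : ModSite.sect (𝟙_ (ModSite.Mod O)) U) : ∃ r : Rg O U, s = ofR r := ⟨s, rfl⟩

theorem sc_η {U : C} (r : Rg O U) :
    sc (Functor.OplaxMonoidal.η (shP O)) U (shs (P := 𝟙_ (PM O)) r) = ofR r := by
  have h := (shAdj O).right_triangle_components (ModSite.unit O)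
  exact congrArg (fun t => MonW.sec t (op U) r) h

theorem sc_leftUnitor_shs {A : PM O} {U : C} (r : Rg O U) (a : A.obj (op U)) :
    sc (λ_ ((shP O).obj A)).hom U (tm (ofR r) (shs a)) = r • shs a := by
  have h := Functor.OplaxMonoidal.left_unitality_hom (shP O) A
  have h2 := congrArg (fun t => sc t U (shs (ptm (A := 𝟙_ (PM O)) r a))) h
  simp only [sc_comp, sc_δ, sc_whiskerRight_tm, sc_shP_map, sc_η, sec_leftUnitor] at h2
  exact h2.trans ((MonW.sec ((shAdj O).unit.app A) (op U)).map_smul r a)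

theorem sc_leftUnitor_tm {U : C} (r : Rg O U) (m : ModSite.sect M U) :
    sc (λ_ M).hom U (tm (ofR r) m) = r • m := by
  have h1 : sc (λ_ ((shP O).obj ((toP O).obj M))).hom U (tm (ofR r) (us m)) = r • us m :=
    sc_leftUnitor_shs (A := (toP O).obj M) r m
  have h2 := congrArg (fun t => sc t U (tm (ofR r) (us m))) (leftUnitor_naturality (cu M))
  simp only [sc_comp, sc_whiskerLeft_tm, sc_cu, h1, sc_smul] at h2
  exact h2

theorem sc_rightUnitor_tm {U : C} (r : Rg O U) (m : ModSite.sect M U) :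
    sc (ρ_ M).hom U (tm m (ofR r)) = r • m := by
  have h := braiding_leftUnitor M
  rw [← h, sc_comp, sc_braiding_tm, sc_leftUnitor_tm]

end Unit

section Ext

theorem sh_tens3_ext {A B D : PM O} {F : ModSite.Mod O} {φ ψ : (shP O).obj ((A ⊗ B) ⊗ D) ⟶ F}
    (h : ∀ (U : C) (a : A.obj (op U)) (b : B.obj (op U)) (d : D.obj (op U)),
      sc φ U (shs (ptm (ptm a b) d)) = sc ψ U (shs (ptm (ptm a b) d))) : φ = ψ := by
  apply ((shAdj O).homEquiv _ F).injective
  ext1 U
  refine ModuleCat.MonoidalCategory.tensor_ext₃' (fun a b d => ?_)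
  exact (homEquiv_shs φ (ptm (ptm a b) d)).trans ((h U.unop a b d).trans
    (homEquiv_shs ψ (ptm (ptm a b) d)).symm)

theorem tens3_hom_ext {F : ModSite.Mod O} {φ ψ : (M ⊗ N) ⊗ P ⟶ F}
    (h : ∀ (U : C) (m : ModSite.sect M U) (n : ModSite.sect N U) (p : ModSite.sect P U),
      sc φ U (tm (tm m n) p) = sc ψ U (tm (tm m n) p)) : φ = ψ := by
  have e1 : Epi (((shTens ((toP O).obj M ⊗ (toP O).obj N) ((toP O).obj P)).hom ≫
      (shTens ((toP O).obj M) ((toP O).obj N)).hom ▷ _) ≫ ((cu M ⊗ₘ cu N) ⊗ₘ cu P)) := by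
    have i1 : ∀ M : ModSite.Mod O, IsIso (cu M) := fun M =>
      inferInstanceAs (IsIso ((shAdj O).counit.app M))
    infer_instance
  rw [← cancel_epi (((shTens ((toP O).obj M ⊗ (toP O).obj N) ((toP O).obj P)).hom ≫
      (shTens ((toP O).obj M) ((toP O).obj N)).hom ▷ _) ≫ ((cu M ⊗ₘ cu N) ⊗ₘ cu P))]
  refine sh_tens3_ext (fun U m n p => ?_)
  have key : sc (((shTens ((toP O).obj M ⊗ (toP O).obj N) ((toP O).obj P)).hom ≫
      (shTens ((toP O).obj M) ((toP O).obj N)).hom ▷ _) ≫ ((cu M ⊗ₘ cu N) ⊗ₘ cu P)) U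
      (shs (ptm (ptm m n) p)) = tm (tm (M := M) (N := N) (U := U) m n) (N := P) p := by
    have h1 := sc_shTens (P := (toP O).obj M ⊗ (toP O).obj N) (Q := (toP O).obj P) (U := U) (ptm m n) p
    have h2 := sc_shTens (P := (toP O).obj M) (Q := (toP O).obj N) (U := U) m n
    rw [sc_comp, sc_comp, h1, sc_whiskerRight_tm, h2, sc_tensor_tm, sc_tensor_tm]
    exact congrArg₂ tm (congrArg₂ tm (sc_cu (M := M) m) (sc_cu (M := N) n)) (sc_cu (M := P) p)
  rw [sc_comp, sc_comp (ψ := ψ), key]
  exact h U m n p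

end Ext

end K291.Tens
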