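import Groth.Agent.ModSite.K291.Colim
import Mathlib.Algebra.Category.ModuleCat.Sheaf.ChangeOfRings

/-!
# Restriction of scalars for sheaves of modules: limits, colimits, conservativity
-/

set_option autoImplicit false

open CategoryTheory Limits Opposite

universe w w' u

namespace K291.ResSc

variable {C : Type u} [SmallCategory C] {J : GrothendieckTopology C} (R : Sheaf J RingCat.{u})

/-- The underlying abelian sheaf. -/
noncomputable abbrev tS : SheafOfModules.{u} R ⥤ Sheaf J AddCommGrpCat.{u} :=
  SheafOfModules.toSheaf.{u} R

/-- Sheafification. -/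
noncomputable abbrev sh : PresheafOfModules.{u} R.obj ⥤ SheafOfModules.{u} R :=
  PresheafOfModules.sheafification.{u} (𝟙 R.obj)

/-- The adjunction. -/
noncomputable abbrev ad : sh R ⊣ SheafOfModules.forget R ⋙ PresheafOfModules.restrictScalars (𝟙 R.obj) :=
  PresheafOfModules.sheafificationAdjunction.{u} (𝟙 R.obj)

/-- The square. -/
noncomputable def shToSheaf : sh R ⋙ tS R ≅
    PresheafOfModules.toPresheaf.{u} R.obj ⋙ presheafToSheaf J AddCommGrpCat.{u} :=
  Iso.refl _

instance preservesColimits_tS : PreservesColimitsOfSize.{u, u} (tS R) where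
  preservesColimitsOfShape {I _} := by
    have h1 : PreservesColimitsOfShape I (PresheafOfModules.toPresheaf.{u} R.obj) := inferInstance
    have h2 : PreservesColimitsOfSize.{u, u} (presheafToSheaf J AddCommGrpCat.{u}) :=
      (sheafificationAdjunction J AddCommGrpCat.{u}).leftAdjoint_preservesColimits
    have h3 : PreservesColimitsOfShape I (presheafToSheaf J AddCommGrpCat.{u}) := inferInstance
    have h4 : PreservesColimitsOfShape I
        (PresheafOfModules.toPresheaf.{u} R.obj ⋙ presheafToSheaf J AddCommGrpCat.{u}) :=
      comp_preservesColimitsOfShape _ _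
    have : PreservesColimitsOfShape I (sh R ⋙ tS R) :=
      preservesColimitsOfShape_of_natIso (shToSheaf R).symm
    exact K291.Colim.preservesColimitsOfShape_of_refl (ad R) I _

instance preservesLimits_tS : PreservesLimitsOfSize.{u, u} (tS R) where
  preservesLimitsOfShape {I _} := by
    have : PreservesLimitsOfShape I (tS R ⋙ sheafToPresheaf J AddCommGrpCat.{u}) :=
      inferInstanceAs (PreservesLimitsOfShape I (SheafOfModules.forget.{u} R ⋙
        PresheafOfModules.toPresheaf.{u} R.obj))
    exact preservesLimitsOfShape_of_reflects_of_preserves _ (sheafToPresheaf J AddCommGrpCat.{u})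

instance reflectsColimits_tS : ReflectsColimitsOfSize.{u, u} (tS R) where
  reflectsColimitsOfShape := reflectsColimitsOfShape_of_reflectsIsomorphisms

instance reflectsLimits_tS : ReflectsLimitsOfSize.{u, u} (tS R) where
  reflectsLimitsOfShape := reflectsLimitsOfShape_of_reflectsIsomorphisms

variable {R} {A B : Sheaf J RingCat.{u}} (φ : A ⟶ B)

/-- Restriction of scalars does not change the abelian sheaf. -/
noncomputable def resIso : SheafOfModules.restrictScalars.{u} φ ⋙ tS A ≅ tS B := Iso.refl _

instance preservesLimits_res : PreservesLimitsOfSize.{u, u} (SheafOfModules.restrictScalars.{u} φ) where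
  preservesLimitsOfShape {I _} := by
    have : PreservesLimitsOfShape I (SheafOfModules.restrictScalars.{u} φ ⋙ tS A) :=
      preservesLimitsOfShape_of_natIso (resIso φ).symm
    exact preservesLimitsOfShape_of_reflects_of_preserves _ (tS A)

instance preservesColimits_res : PreservesColimitsOfSize.{u, u} (SheafOfModules.restrictScalars.{u} φ) where
  preservesColimitsOfShape {I _} := by
    have : PreservesColimitsOfShape I (SheafOfModules.restrictScalars.{u} φ ⋙ tS A) :=
      preservesColimitsOfShape_of_natIso (resIso φ).symm
    exact preservesColimitsOfShape_of_reflects_of_preserves _ (tS A)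

instance reflectsIso_res : (SheafOfModules.restrictScalars.{u} φ).ReflectsIsomorphisms := by
  have : (SheafOfModules.restrictScalars.{u} φ ⋙ tS A).ReflectsIsomorphisms :=
    inferInstanceAs (tS B).ReflectsIsomorphisms
  exact reflectsIsomorphisms_of_comp _ (tS A)

end K291.ResSc
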