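import Groth.Agent.Dcoh.MonW
import Groth.Agent.Dcoh.MonRefl
import Groth.Prelude.Def_ModSite

/-!
# The symmetric monoidal category of modules on a ringed site

For a small ringed site `(C, J, O)` (`O` commutative) we make `ModSite.Mod O` a symmetric monoidal
category (scoped instances `monMod`, `symMod`; use `open scoped K291.Mon`) in which, DEFINITIONALLY,
* `M ⊗ N = ((ModSite.tensorBi O).obj M).obj N`,
* `M ◁ g = ((ModSite.tensorBi O).obj M).map g`, `f ▷ N = ((ModSite.tensorBi O).map f).app N`,
* `𝟙_ _ = ModSite.unit O`,
and such that sheafification `shP O : PM O ⥤ Mod O` is a (braided) monoidal functor,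
with `δ = shP.map (η ⊗ η)`.
-/

set_option autoImplicit false

open CategoryTheory MonoidalCategory Limits Opposite

universe u

namespace K291.Mon

open Groth.Agent.Dcoh

variable {C : Type u} [SmallCategory C] {J : GrothendieckTopology C} (O : Sheaf J CommRingCat.{u})

/-- Presheaves of modules over the presheaf of commutative rings underlying `O` (the form with the
monoidal structure). -/
abbrev PM : Type (u + 1) := PresheafOfModules.{u} (O.obj ⋙ forget₂ CommRingCat.{u} RingCat.{u})

/-- The forgetful functor. -/
noncomputable def toP : ModSite.Mod O ⥤ PM O := SheafOfModules.forget (ModSite.ringSh O)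

/-- Sheafification. -/
noncomputable def shP : PM O ⥤ ModSite.Mod O := ModSite.sheafify O

/-- Morphisms of presheaves of modules which become isomorphisms after sheafification. -/
abbrev WO : MorphismProperty (PM O) := MonW.W J O.obj

/-- Sheafification is left adjoint to the forgetful functor. -/
noncomputable def shAdj : shP O ⊣ toP O :=
  PresheafOfModules.sheafificationAdjunction (𝟙 (ModSite.ringSh O).obj)

instance isLocalization_shP : (shP O).IsLocalization (WO O) :=
  inferInstanceAs ((PresheafOfModules.sheafification (𝟙 (ModSite.ringSh O).obj)).IsLocalization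
    (J.W.inverseImage (PresheafOfModules.toPresheaf (ModSite.ringSh O).obj)))

instance isIso_shAdj_counit : IsIso (shAdj O).counit :=
  inferInstanceAs
    (IsIso (PresheafOfModules.sheafificationAdjunction (𝟙 (ModSite.ringSh O).obj)).counit)

instance toP_full : (toP O).Full :=
  inferInstanceAs (SheafOfModules.forget (ModSite.ringSh O)).Full

instance toP_faithful : (toP O).Faithful :=
  inferInstanceAs (SheafOfModules.forget (ModSite.ringSh O)).Faithful

instance shP_isLeftAdjoint : (shP O).IsLeftAdjoint := (shAdj O).isLeftAdjoint
instance toP_isRightAdjoint : (toP O).IsRightAdjoint := (shAdj O).isRightAdjoint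

theorem WO_iff {P Q : PM O} (f : P ⟶ Q) : WO O f ↔ IsIso ((shP O).map f) := by
  have := PresheafOfModules.inverseImage_W_toPresheaf_eq_inverseImage_isomorphisms
    (𝟙 (ModSite.ringSh O).obj)
  change J.W.inverseImage (PresheafOfModules.toPresheaf (ModSite.ringSh O).obj) f ↔ _
  rw [this]
  rfl

theorem WO_unit (P : PM O) : WO O ((shAdj O).unit.app P) := by
  rw [WO_iff]
  have h := (shAdj O).left_triangle_components P
  exact IsIso.of_isIso_fac_right h

/-- `L(𝟙) ≅ O`. -/
noncomputable def unitIso : (shP O).obj (𝟙_ (PM O)) ≅ ModSite.unit O :=
  (asIso (shAdj O).counit).app (ModSite.unit O)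

/-- The monoidal category structure on `Mod O`. -/
@[instance_reducible]
noncomputable def monMod : MonoidalCategory (ModSite.Mod O) :=
  MonRefl.monoidal (shAdj O) (WO O) (unitIso O)

attribute [scoped instance] monMod

/-- The symmetric monoidal category structure on `Mod O`. -/
@[instance_reducible]
noncomputable def symMod : SymmetricCategory (ModSite.Mod O) :=
  MonRefl.symmetric (shAdj O) (WO O) (unitIso O)

attribute [scoped instance] symMod

/-- Sheafification is braided monoidal. -/
@[instance_reducible]
noncomputable def braidedShP : (shP O).Braided :=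
  MonRefl.braidedL (shAdj O) (WO O) (unitIso O) (WO_unit O)

attribute [scoped instance] braidedShP

section Defeq

variable {O} (M N : ModSite.Mod O)

example : M ⊗ N = ((ModSite.tensorBi O).obj M).obj N := rfl
example {N' : ModSite.Mod O} (g : N ⟶ N') : M ◁ g = ((ModSite.tensorBi O).obj M).map g := rfl
example {M' : ModSite.Mod O} (g : M ⟶ M') : g ▷ N = ((ModSite.tensorBi O).map g).app N := rfl
example : 𝟙_ (ModSite.Mod O) = ModSite.unit O := rfl
example : (β_ M N).hom = (shP O).map (β_ ((toP O).obj M) ((toP O).obj N)).hom := rfl

variable (O)

/-- `tensorBi` is the curried tensor product of the monoidal category `Mod O`. -/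
noncomputable def tensorBiIso : ModSite.tensorBi O ≅ curriedTensor (ModSite.Mod O) :=
  NatIso.ofComponents (fun M => NatIso.ofComponents (fun N => Iso.refl _)
    (fun g => (Category.comp_id _).trans (Category.id_comp _).symm))
    (fun f => by ext N : 2; exact (Category.comp_id _).trans (Category.id_comp _).symm)

/-- `- ⊗ F` as `tensorRight`. -/
noncomputable def flipObjIso (F : ModSite.Mod O) :
    (ModSite.tensorBi O).flip.obj F ≅ tensorRight F :=
  NatIso.ofComponents (fun _ => Iso.refl _)
    (fun _ => (Category.comp_id _).trans (Category.id_comp _).symm)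

/-- `F ⊗ -` as `tensorLeft`. -/
noncomputable def objIso (F : ModSite.Mod O) :
    (ModSite.tensorBi O).obj F ≅ tensorLeft F :=
  NatIso.ofComponents (fun _ => Iso.refl _)
    (fun _ => (Category.comp_id _).trans (Category.id_comp _).symm)

/-- The symmetry `F ⊗ - ≅ - ⊗ F`. -/
noncomputable def objIsoFlip (F : ModSite.Mod O) :
    (ModSite.tensorBi O).obj F ≅ (ModSite.tensorBi O).flip.obj F :=
  NatIso.ofComponents (fun N => β_ F N)
    (fun g => BraidedCategory.braiding_naturality_right F g)

end Defeq

end K291.Mon
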