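import Groth.Agent.ModSite.K291.FreeOn

/-!
# Section calculus for the tensor product of modules on a ringed site

* `ptm m n : (A ⊗ B).obj (op U)`, pure tensors in the presheaf tensor product, `pdesc` (the universal
  property), `pm_hom_ext`;
* `tm m n : sect (M ⊗ N) U`, pure tensors in the tensor product of sheaves of modules: `tm_add`,
  `add_tm`, `smul_tm`, `tm_smul`, `rs_tm`, `sc_tensor_tm`, `sc_whiskerRight_tm`, `sc_whiskerLeft_tm`,
  `tens_hom_ext`, `tdesc` (the universal property), `sc_tdesc_tm`, `braiding`.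
-/

set_option autoImplicit false

open CategoryTheory MonoidalCategory Limits Opposite

universe w w' v₁ v₂ v₃ u₁ u₂ u₃ u

namespace K291.Tens

open Groth.Agent.Dcoh K291.Mon K291.Colim K291.Flat K291.FreeOn

variable {C : Type u} [SmallCategory C] {J : GrothendieckTopology C} {O : Sheaf J CommRingCat.{u}}

section Presheaf

variable {A B P Q : PM O}

/-- Pure tensors. -/
noncomputable def ptm {U : Cᵒᵖ} (m : A.obj U) (n : B.obj U) : (A ⊗ B).obj U :=
  TensorProduct.tmul (O.obj.obj U) m n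

theorem ptm_add {U : Cᵒᵖ} (m : A.obj U) (n n' : B.obj U) :
    (ptm m (n + n') : (A ⊗ B).obj U) = ptm m n + ptm m n' := TensorProduct.tmul_add _ _ _

theorem add_ptm {U : Cᵒᵖ} (m m' : A.obj U) (n : B.obj U) :
    (ptm (m + m') n : (A ⊗ B).obj U) = ptm m n + ptm m' n := TensorProduct.add_tmul _ _ _

theorem smul_ptm {U : Cᵒᵖ} (r : O.obj.obj U) (m : A.obj U) (n : B.obj U) :
    (ptm (r • m) n : (A ⊗ B).obj U) = r • ptm m n := (TensorProduct.smul_tmul' r m n).symm

theorem ptm_smul {U : Cᵒᵖ} (r : O.obj.obj U) (m : A.obj U) (n : B.obj U) :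
    (ptm m (r • n) : (A ⊗ B).obj U) = r • ptm m n := TensorProduct.tmul_smul r m n

theorem res_ptm {U V : Cᵒᵖ} (i : U ⟶ V) (m : A.obj U) (n : B.obj U) :
    MonW.res (A ⊗ B) i (ptm m n) = ptm (MonW.res A i m) (MonW.res B i n) := rfl

theorem sec_tensor {A' B' : PM O} (φ : A ⟶ A') (ψ : B ⟶ B') {U : Cᵒᵖ} (m : A.obj U) (n : B.obj U) :
    MonW.sec (φ ⊗ₘ ψ) U (ptm m n) = ptm (MonW.sec φ U m) (MonW.sec ψ U n) := rfl

theorem pm_hom_ext {φ ψ : A ⊗ B ⟶ P}
    (h : ∀ (U : Cᵒᵖ) (m : A.obj U) (n : B.obj U), MonW.sec φ U (ptm m n) = MonW.sec ψ U (ptm m n)) :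
    φ = ψ := by
  ext1 U
  exact ModuleCat.MonoidalCategory.tensor_ext (fun m n => h U m n)

/-- The universal property of the presheaf tensor product. -/
noncomputable def pdesc (b : ∀ U : Cᵒᵖ, A.obj U →ₗ[O.obj.obj U] B.obj U →ₗ[O.obj.obj U] P.obj U)
    (hb : ∀ ⦃U V : Cᵒᵖ⦄ (i : U ⟶ V) (m : A.obj U) (n : B.obj U),
      MonW.res P i (b U m n) = b V (MonW.res A i m) (MonW.res B i n)) : A ⊗ B ⟶ P where
  app U := ModuleCat.ofHom (TensorProduct.lift (b U))
  naturality {U V} i := ModuleCat.MonoidalCategory.tensor_ext (fun m n => (hb i m n).symm)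

theorem sec_pdesc (b : ∀ U : Cᵒᵖ, A.obj U →ₗ[O.obj.obj U] B.obj U →ₗ[O.obj.obj U] P.obj U)
    (hb : ∀ ⦃U V : Cᵒᵖ⦄ (i : U ⟶ V) (m : A.obj U) (n : B.obj U),
      MonW.res P i (b U m n) = b V (MonW.res A i m) (MonW.res B i n)) {U : Cᵒᵖ} (m : A.obj U)
    (n : B.obj U) : MonW.sec (pdesc b hb) U (ptm m n) = b U m n := rfl

end Presheaf

section Sheaf

variable {M N P : ModSite.Mod O}

/-- Pure tensors. -/
noncomputable def tm {U : C} (m : ModSite.sect M U) (n : ModSite.sect N U) : ModSite.sect (M ⊗ N) U :=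
  MonW.sec ((shAdj O).unit.app ((toP O).obj M ⊗ (toP O).obj N)) (op U)
    (ptm (A := (toP O).obj M) (B := (toP O).obj N) m n)

theorem tm_add {U : C} (m : ModSite.sect M U) (n n' : ModSite.sect N U) :
    tm m (n + n') = tm m n + tm m n' :=
  (congrArg (MonW.sec ((shAdj O).unit.app ((toP O).obj M ⊗ (toP O).obj N)) (op U))
    (ptm_add _ _ _)).trans (map_add _ _ _)

theorem add_tm {U : C} (m m' : ModSite.sect M U) (n : ModSite.sect N U) :
    tm (m + m') n = tm m n + tm m' n :=
  (congrArg (MonW.sec ((shAdj O).unit.app ((toP O).obj M ⊗ (toP O).obj N)) (op U))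
    (add_ptm _ _ _)).trans (map_add _ _ _)

theorem smul_tm {U : C} (r : Rg O U) (m : ModSite.sect M U) (n : ModSite.sect N U) :
    tm (r • m) n = r • tm m n :=
  (congrArg (MonW.sec ((shAdj O).unit.app ((toP O).obj M ⊗ (toP O).obj N)) (op U))
    (smul_ptm r _ _)).trans ((MonW.sec ((shAdj O).unit.app ((toP O).obj M ⊗ (toP O).obj N))
      (op U)).map_smul r _)

theorem tm_smul {U : C} (r : Rg O U) (m : ModSite.sect M U) (n : ModSite.sect N U) :
    tm m (r • n) = r • tm m n :=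
  (congrArg (MonW.sec ((shAdj O).unit.app ((toP O).obj M ⊗ (toP O).obj N)) (op U))
    (ptm_smul r _ _)).trans ((MonW.sec ((shAdj O).unit.app ((toP O).obj M ⊗ (toP O).obj N))
      (op U)).map_smul r _)

theorem rs_tm {U V : C} (f : V ⟶ U) (m : ModSite.sect M U) (n : ModSite.sect N U) :
    rs _ f (tm m n) = tm (rs M f m) (rs N f n) :=
  (MonW.sec_res ((shAdj O).unit.app ((toP O).obj M ⊗ (toP O).obj N)) f.op _).symm

theorem sc_tensor_tm {M' N' : ModSite.Mod O} (φ : M ⟶ M') (ψ : N ⟶ N') {U : C}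
    (m : ModSite.sect M U) (n : ModSite.sect N U) :
    sc (φ ⊗ₘ ψ) U (tm m n) = tm (sc φ U m) (sc ψ U n) := by
  have h := (shAdj O).unit.naturality ((toP O).map φ ⊗ₘ (toP O).map ψ)
  have h2 := congrArg (fun t => MonW.sec t (op U)
    (ptm (A := (toP O).obj M) (B := (toP O).obj N) m n)) h
  exact h2.symm

theorem sc_whiskerRight_tm {M' : ModSite.Mod O} (φ : M ⟶ M') {U : C}
    (m : ModSite.sect M U) (n : ModSite.sect N U) :
    sc (φ ▷ N) U (tm m n) = tm (sc φ U m) n := by
  have h := sc_tensor_tm φ (𝟙 N) m n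
  rwa [MonoidalCategory.tensorHom_id, sc_id] at h

theorem sc_whiskerLeft_tm {N' : ModSite.Mod O} (ψ : N ⟶ N') {U : C}
    (m : ModSite.sect M U) (n : ModSite.sect N U) :
    sc (M ◁ ψ) U (tm m n) = tm m (sc ψ U n) := by
  have h := sc_tensor_tm (𝟙 M) ψ m n
  rwa [MonoidalCategory.id_tensorHom, sc_id] at h

theorem homEquiv_tm (φ : M ⊗ N ⟶ P) {U : C} (m : ModSite.sect M U) (n : ModSite.sect N U) :
    MonW.sec ((shAdj O).homEquiv _ _ φ) (op U)
      (ptm (A := (toP O).obj M) (B := (toP O).obj N) m n) = sc φ U (tm m n) := by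
  rw [Adjunction.homEquiv_unit]
  rfl

theorem tens_hom_ext {φ ψ : M ⊗ N ⟶ P}
    (h : ∀ (U : C) (m : ModSite.sect M U) (n : ModSite.sect N U), sc φ U (tm m n) = sc ψ U (tm m n)) :
    φ = ψ := by
  apply ((shAdj O).homEquiv ((toP O).obj M ⊗ (toP O).obj N) P).injective
  refine pm_hom_ext (fun U m n => ?_)
  exact (homEquiv_tm φ m n).trans ((h U.unop m n).trans (homEquiv_tm ψ m n).symm)

/-- Bilinear maps of modules. -/
structure Bil (M N P : ModSite.Mod O) where
  /-- The map on sections. -/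
  b : ∀ {U : C}, ModSite.sect M U → ModSite.sect N U → ModSite.sect P U
  add_left : ∀ {U : C} (m m' : ModSite.sect M U) (n : ModSite.sect N U), b (m + m') n = b m n + b m' n
  add_right : ∀ {U : C} (m : ModSite.sect M U) (n n' : ModSite.sect N U), b m (n + n') = b m n + b m n'
  smul_left : ∀ {U : C} (r : Rg O U) (m : ModSite.sect M U) (n : ModSite.sect N U),
    b (r • m) n = r • b m n
  smul_right : ∀ {U : C} (r : Rg O U) (m : ModSite.sect M U) (n : ModSite.sect N U),
    b m (r • n) = r • b m n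
  res : ∀ {U V : C} (f : V ⟶ U) (m : ModSite.sect M U) (n : ModSite.sect N U),
    rs P f (b m n) = b (rs M f m) (rs N f n)

/-- The universal property of the tensor product. -/
noncomputable def tdesc (b : Bil M N P) : M ⊗ N ⟶ P :=
  ((shAdj O).homEquiv ((toP O).obj M ⊗ (toP O).obj N) P).symm
    (pdesc (A := (toP O).obj M) (B := (toP O).obj N) (P := (toP O).obj P)
      (fun U => LinearMap.mk₂ (O.obj.obj U) (fun m n => b.b (U := U.unop) m n)
        (fun m m' n => b.add_left m m' n) (fun r m n => b.smul_left r m n)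
        (fun m n n' => b.add_right m n n') (fun r m n => b.smul_right r m n))
      (fun U V i m n => b.res i.unop m n))

theorem sc_tdesc_tm (b : Bil M N P) {U : C} (m : ModSite.sect M U) (n : ModSite.sect N U) :
    sc (tdesc b) U (tm m n) = b.b m n := by
  rw [← homEquiv_tm, tdesc, Equiv.apply_symm_apply]
  rfl

theorem sc_braiding_tm {U : C} (m : ModSite.sect M U) (n : ModSite.sect N U) :
    sc (β_ M N).hom U (tm m n) = tm n m := by
  have h := (shAdj O).unit.naturality (β_ ((toP O).obj M) ((toP O).obj N)).hom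
  have h2 := congrArg (fun t => MonW.sec t (op U)
    (ptm (A := (toP O).obj M) (B := (toP O).obj N) m n)) h
  exact h2.symm

end Sheaf

end K291.Tens
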