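import Groth.Agent.ModSite.K291.FreeOn

/-!
# Cocontinuous functors on modules are determined by the modules `A_U`

* `isIso_app_of_isColimit`: a natural transformation between functors preserving a colimit, invertible on the
  diagram, is invertible at the colimit;
* `isIso_of_freeOn`: a natural transformation between cocontinuous functors on `Mod O`, invertible at the modules
  `A_U = j_{U!} O_U`, is invertible.
-/

set_option autoImplicit false

open CategoryTheory MonoidalCategory Limits Opposite

universe w w' v₁ v₂ v₃ u₁ u₂ u₃ u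

namespace K291.Dense

open Groth.Agent.Dcoh K291.Mon K291.Colim K291.Flat K291.FreeOn

theorem isIso_app_of_isColimit {A : Type u₁} [Category.{v₁} A] {E : Type u₂} [Category.{v₂} E] {F G : A ⥤ E}
    (τ : F ⟶ G) {I : Type u₃} [Category.{v₃} I] {X : I ⥤ A} {c : Cocone X} (hc : IsColimit c)
    [PreservesColimit X F] [PreservesColimit X G] (h : ∀ i, IsIso (τ.app (X.obj i))) : IsIso (τ.app c.pt) := by
  let e : X ⋙ F ≅ X ⋙ G := NatIso.ofComponents (fun i => @asIso _ _ _ _ _ (h i))
    (fun g => τ.naturality (X.map g))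
  have he : τ.app c.pt = (IsColimit.coconePointsIsoOfNatIso (isColimitOfPreserves F hc)
      (isColimitOfPreserves G hc) e).hom := by
    refine (isColimitOfPreserves F hc).hom_ext (fun i => ?_)
    rw [IsColimit.comp_coconePointsIsoOfNatIso_hom]
    exact τ.naturality (c.ι.app i)
  rw [he]
  infer_instance

variable {C : Type u} [SmallCategory C] {J : GrothendieckTopology C} {O : Sheaf J CommRingCat.{u}}

theorem exists_epi_sigma (X : ModSite.Mod O) : ∃ (ι : Type u) (U : ι → C)
    (π : (∐ fun j : ι => ModSite.freeOn O (U j)) ⟶ X), Epi π := by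
  refine ⟨Σ U : C, ModSite.sect X U, fun j => j.1,
    Sigma.desc fun j => K291.FreeOn.ofSec j.2, ⟨fun a b hab => ?_⟩⟩
  refine K291.FreeOn.hom_ext fun U s => ?_
  have h1 := Sigma.ι (fun j : (Σ U : C, ModSite.sect X U) => ModSite.freeOn O j.1) ⟨U, s⟩ ≫= hab
  rw [Sigma.ι_desc_assoc, Sigma.ι_desc_assoc, K291.FreeOn.ofSec_comp, K291.FreeOn.ofSec_comp] at h1
  have h2 := congrArg (fun t => K291.FreeOn.sc t U (K291.FreeOn.gen O U)) h1
  simpa only [K291.FreeOn.sc_ofSec] using h2

/-- A natural transformation between cocontinuous functors, invertible at the `A_U`, is invertible. -/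
theorem isIso_of_freeOn {E : Type u₂} [Category.{v₂} E] {F G : ModSite.Mod O ⥤ E} (τ : F ⟶ G)
    [PreservesColimitsOfSize.{u, u} F] [PreservesColimitsOfSize.{u, u} G]
    (h : ∀ U : C, IsIso (τ.app (ModSite.freeOn O U))) : IsIso τ := by
  have h1 : ∀ (ι : Type u) (U : ι → C), IsIso (τ.app (∐ fun j : ι => ModSite.freeOn O (U j))) := fun ι U =>
    isIso_app_of_isColimit τ (colimit.isColimit (Discrete.functor fun j : ι => ModSite.freeOn O (U j)))
      (fun j => h (U j.as))
  have h2 : ∀ X, IsIso (τ.app X) := by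
    intro X
    obtain ⟨ι, U, π, hπ⟩ := exists_epi_sigma X
    obtain ⟨ι', U', π', hπ'⟩ := exists_epi_sigma (kernel π)
    let S : ShortComplex (ModSite.Mod O) := ShortComplex.mk (π' ≫ kernel.ι π) π (by simp)
    have hS : S.Exact := by
      have hS0 : (ShortComplex.mk (kernel.ι π) π (by simp)).Exact :=
        ShortComplex.exact_of_f_is_kernel _ (kernelIsKernel _)
      let φ : S ⟶ ShortComplex.mk (kernel.ι π) π (by simp) :=
        { τ₁ := π', τ₂ := 𝟙 _, τ₃ := 𝟙 _ }
      have : Epi φ.τ₁ := hπ'
      have : IsIso φ.τ₂ := inferInstanceAs (IsIso (𝟙 _))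
      have : Mono φ.τ₃ := inferInstanceAs (Mono (𝟙 _))
      exact (ShortComplex.exact_iff_of_epi_of_isIso_of_mono φ).2 hS0
    have : Epi S.g := hπ
    have : PreservesColimitsOfSize.{0, 0} F := preservesColimitsOfSize_shrink.{0, u, 0, u} F
    have : PreservesColimitsOfSize.{0, 0} G := preservesColimitsOfSize_shrink.{0, u, 0, u} G
    refine isIso_app_of_isColimit τ hS.gIsCokernel (fun i => ?_)
    match i with
    | .zero => exact h1 ι' U'
    | .one => exact h1 ι U
  exact NatIso.isIso_of_isIso_app τ

end K291.Dense
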