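import Groth.Agent.ModSite.K291.Tens
import Mathlib.CategoryTheory.Limits.Shapes.FunctorToTypes

/-!
# Tensor products of free modules on presheaves of sets

* `shs p`, the section of `sh P` given by a section of `P`; `sh_hom_ext`; `shTens : sh(P ⊗ Q) ≅ sh P ⊗ sh Q`;
* `fg a`, the generators of the free module `Fr A` on a presheaf of sets `A`; `fr_hom_ext`, `fdesc`;
* `frTens : Fr (A × B) ≅ Fr A ⊗ Fr B`.
-/

set_option autoImplicit false

open CategoryTheory MonoidalCategory Limits Opposite

universe w w' v₁ v₂ v₃ u₁ u₂ u₃ u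

namespace K291.Tens

open Groth.Agent.Dcoh K291.Mon K291.Colim K291.Flat K291.FreeOn

variable {C : Type u} [SmallCategory C] {J : GrothendieckTopology C} {O : Sheaf J CommRingCat.{u}}

section Sh

variable {P Q : PM O} {F : ModSite.Mod O}

/-- The section of the sheafification given by a section of `P`. -/
noncomputable def shs {U : C} (p : P.obj (op U)) : ModSite.sect ((shP O).obj P) U :=
  MonW.sec ((shAdj O).unit.app P) (op U) p

theorem sc_shP_map (φ : P ⟶ Q) {U : C} (p : P.obj (op U)) :
    sc ((shP O).map φ) U (shs p) = shs (MonW.sec φ (op U) p) := by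
  have h := (shAdj O).unit.naturality φ
  exact (congrArg (fun t => MonW.sec t (op U) p) h).symm

theorem shs_res {U V : C} (f : V ⟶ U) (p : P.obj (op U)) :
    rs _ f (shs p) = shs (MonW.res P f.op p) :=
  (MonW.sec_res ((shAdj O).unit.app P) f.op p).symm

theorem homEquiv_shs (φ : (shP O).obj P ⟶ F) {U : C} (p : P.obj (op U)) :
    MonW.sec ((shAdj O).homEquiv _ _ φ) (op U) p = sc φ U (shs p) := by
  rw [Adjunction.homEquiv_unit]
  rfl

theorem sh_hom_ext {φ ψ : (shP O).obj P ⟶ F}
    (h : ∀ (U : C) (p : P.obj (op U)), sc φ U (shs p) = sc ψ U (shs p)) : φ = ψ := by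
  apply ((shAdj O).homEquiv P F).injective
  ext U p
  exact (homEquiv_shs φ p).trans ((h U.unop p).trans (homEquiv_shs ψ p).symm)

theorem sc_desc_shs (t : P ⟶ (toP O).obj F) {U : C} (p : P.obj (op U)) :
    sc (((shAdj O).homEquiv P F).symm t) U (shs p) = MonW.sec t (op U) p := by
  rw [← homEquiv_shs, Equiv.apply_symm_apply]

variable (P Q) in
/-- Sheafification commutes with tensor products. -/
noncomputable def shTens : (shP O).obj (P ⊗ Q) ≅ (shP O).obj P ⊗ (shP O).obj Q :=
  haveI : IsIso ((shP O).map ((shAdj O).unit.app P ⊗ₘ (shAdj O).unit.app Q)) := by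
    rw [← WO_iff]
    exact MorphismProperty.tensorHom_mem (WO O) _ _ (WO_unit O P) (WO_unit O Q)
  asIso ((shP O).map ((shAdj O).unit.app P ⊗ₘ (shAdj O).unit.app Q))

theorem sc_shTens {U : C} (p : P.obj (op U)) (q : Q.obj (op U)) :
    sc (shTens P Q).hom U (shs (ptm p q)) = tm (shs p) (shs q) :=
  sc_shP_map ((shAdj O).unit.app P ⊗ₘ (shAdj O).unit.app Q) (ptm p q)

end Sh

section Free

variable {A B : Cᵒᵖ ⥤ Type u} {F : ModSite.Mod O}

/-- The generators of the free presheaf of modules. -/
noncomputable def pfg {U : Cᵒᵖ} (a : A.obj U) :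
    ((PresheafOfModules.free (O.obj ⋙ forget₂ CommRingCat.{u} RingCat.{u})).obj A : PM O).obj U :=
  ModuleCat.freeMk a

/-- The generators of the free module. -/
noncomputable def fg {U : C} (a : A.obj (op U)) : ModSite.sect ((Fr O).obj A) U :=
  shs (P := (PresheafOfModules.free (O.obj ⋙ forget₂ CommRingCat.{u} RingCat.{u})).obj A) (pfg a)

theorem homEquiv_fg (φ : (Fr O).obj A ⟶ F) {U : C} (a : A.obj (op U)) :
    ((frAdj O).homEquiv _ _ φ).app (op U) a = sc φ U (fg a) := by
  rw [Adjunction.homEquiv_unit]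
  rfl

theorem fr_hom_ext {φ ψ : (Fr O).obj A ⟶ F}
    (h : ∀ (U : C) (a : A.obj (op U)), sc φ U (fg a) = sc ψ U (fg a)) : φ = ψ := by
  apply ((frAdj O).homEquiv A F).injective
  ext U a
  exact (homEquiv_fg φ a).trans ((h U.unop a).trans (homEquiv_fg ψ a).symm)

/-- Morphisms out of the free module. -/
noncomputable def fdesc (t : A ⟶ (toSet O).obj F) : (Fr O).obj A ⟶ F :=
  ((frAdj O).homEquiv A F).symm t

theorem sc_fdesc (t : A ⟶ (toSet O).obj F) {U : C} (a : A.obj (op U)) :
    sc (fdesc t) U (fg a) = t.app (op U) a := by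
  rw [← homEquiv_fg, fdesc, Equiv.apply_symm_apply]

theorem sc_frMap (φ : A ⟶ B) {U : C} (a : A.obj (op U)) :
    sc ((Fr O).map φ) U (fg a) = fg (φ.app (op U) a) := by
  have h := (frAdj O).unit.naturality φ
  exact (congrArg (fun t => t.app (op U) a) h).symm

theorem rs_fg {U V : C} (f : V ⟶ U) (a : A.obj (op U)) :
    rs ((Fr O).obj A) f (fg a) = fg (A.map f.op a) := by
  have h := ((frAdj O).unit.app A).naturality f.op
  exact (congrArg (fun t => t a) h).symm

theorem pfg_res {U V : Cᵒᵖ} (i : U ⟶ V) (a : A.obj U) :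
    MonW.res ((PresheafOfModules.free (O.obj ⋙ forget₂ CommRingCat.{u} RingCat.{u})).obj A) i (pfg (O := O) a) =
      pfg (A.map i a) := by
  have h := ((PresheafOfModules.freeAdjunction (O.obj ⋙ forget₂ CommRingCat.{u} RingCat.{u})).unit.app A).naturality i
  exact (congrArg (fun t => t a) h).symm

variable (O A B) in
/-- The comparison of free presheaves of modules. -/
noncomputable def pfrTens : ((PresheafOfModules.free (O.obj ⋙ forget₂ CommRingCat.{u} RingCat.{u})).obj
    (FunctorToTypes.prod A B) : PM O) ⟶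
      (PresheafOfModules.free (O.obj ⋙ forget₂ CommRingCat.{u} RingCat.{u})).obj A ⊗
      (PresheafOfModules.free (O.obj ⋙ forget₂ CommRingCat.{u} RingCat.{u})).obj B :=
  PresheafOfModules.freeObjDesc
    { app := fun U => ↾fun z => ptm (O := O) (pfg z.1) (pfg z.2)
      naturality := fun U V i => by
        ext z
        change ptm (O := O) (pfg (A.map i z.1)) (pfg (B.map i z.2)) = MonW.res (_ ⊗ _) i (ptm (pfg z.1) (pfg z.2))
        rw [res_ptm, pfg_res, pfg_res] }

theorem pfrTens_pfg {U : Cᵒᵖ} (z : (FunctorToTypes.prod A B).obj U) :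
    MonW.sec (pfrTens O A B) U (pfg z) = ptm (pfg z.1) (pfg z.2) :=
  ModuleCat.freeDesc_apply _ z

theorem bijective_pfrTens (U : Cᵒᵖ) : Function.Bijective (MonW.sec (pfrTens O A B) U) := by
  let e := (finsuppTensorFinsupp' (O.obj.obj U) (A.obj U) (B.obj U)).symm
  have key : ∀ (f g : ((A.obj U × B.obj U) →₀ O.obj.obj U) →ₗ[O.obj.obj U]
      TensorProduct (O.obj.obj U) (A.obj U →₀ O.obj.obj U) (B.obj U →₀ O.obj.obj U)),
      (∀ z, f (Finsupp.single z 1) = g (Finsupp.single z 1)) → f = g :=
    fun f g h => Finsupp.lhom_ext' (fun z => LinearMap.ext_ring (h z))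
  have h := key (MonW.sec (pfrTens O A B) U) e.toLinearMap (fun z => (pfrTens_pfg z).trans
    (finsuppTensorFinsupp'_symm_single_eq_single_one_tmul _ _ _ _ _).symm)
  have h2 : Function.Bijective e.toLinearMap := e.bijective
  rw [← h] at h2
  exact h2

/-- A morphism of presheaves of modules which is bijective on sections is an isomorphism. -/
theorem isIso_of_bijective {P Q : PM O} (φ : P ⟶ Q) (h : ∀ U : Cᵒᵖ, Function.Bijective (MonW.sec φ U)) :
    IsIso φ := by
  have h : ∀ U : Cᵒᵖ, IsIso (((toPsh O).map φ).app U) := by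
    intro U
    rw [ConcreteCategory.isIso_iff_bijective]
    exact h U
  have h2 : IsIso ((toPsh O).map φ) := NatIso.isIso_of_isIso_app _
  have h3 : (toPsh O).ReflectsIsomorphisms :=
    inferInstanceAs (PresheafOfModules.toPresheaf.{u}
      (O.obj ⋙ forget₂ CommRingCat.{u} RingCat.{u})).ReflectsIsomorphisms
  exact isIso_of_reflects_iso _ (toPsh O)

variable (O A B) in
/-- `Fr (A × B) ≅ Fr A ⊗ Fr B`. -/
noncomputable def frTens : (Fr O).obj (FunctorToTypes.prod A B) ≅ (Fr O).obj A ⊗ (Fr O).obj B :=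
  haveI := isIso_of_bijective (pfrTens O A B) bijective_pfrTens
  (shP O).mapIso (asIso (pfrTens O A B)) ≪≫ shTens _ _

theorem sc_frTens {U : C} (z : (FunctorToTypes.prod A B).obj (op U)) :
    sc (frTens O A B).hom U (fg z) = tm (fg z.1) (fg z.2) := by
  have := isIso_of_bijective (pfrTens O A B) bijective_pfrTens
  rw [frTens, Iso.trans_hom, sc_comp]
  refine (congrArg (sc (shTens _ _).hom U) ((sc_shP_map (pfrTens O A B) (pfg z)).trans
    (congrArg shs (pfrTens_pfg z)))).trans ?_
  exact sc_shTens _ _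

end Free

end K291.Tens
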