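import Mathlib.CategoryTheory.Sites.Pullback
import Mathlib.CategoryTheory.Limits.Shapes.FunctorToTypes
import Mathlib.CategoryTheory.Limits.Preserves.Shapes.BinaryProducts
import Mathlib.CategoryTheory.Sites.Limits

/-!
# Presheaves of sets and exact inverse images

For a continuous functor `u : D ⥤ C` between small sites with exact inverse image on sheaves of sets, a morphism
`t : A ⟶ u.op ⋙ B` (`A` a presheaf of sets on `D`, `B` on `C`) is `Good` if it exhibits the sheaf associated to `B` as
the inverse image of the sheaf associated to `A`. Representable presheaves give good morphisms and good morphisms are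
stable under products.
-/

set_option autoImplicit false

open CategoryTheory Limits Opposite

universe u

namespace K291.GoodPair

variable {C D : Type u} [SmallCategory C] [SmallCategory D] {J : GrothendieckTopology C}
    {K : GrothendieckTopology D} (u : D ⥤ C)

variable {A A' : Dᵒᵖ ⥤ Type u} {B B' : Cᵒᵖ ⥤ Type u}

variable (J) in
/-- `t : A ⟶ u^* B` exhibits the sheaf associated to `B` as the inverse image of the sheaf associated to `A`. -/
def Good (t : A ⟶ u.op ⋙ B) : Prop :=
  ∀ (P : Sheaf J (Type u)), Function.Bijective (fun ψ : B ⟶ P.obj => t ≫ Functor.whiskerLeft u.op ψ)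

/-- The tautological morphism `h_V ⟶ u^* h_{u(V)}`. -/
def yonedaT (V : D) : yoneda.obj V ⟶ u.op ⋙ yoneda.obj (u.obj V) where
  app W := ↾fun (g : W.unop ⟶ V) => u.map g
  naturality W W' i := by
    ext g
    exact u.map_comp _ _

theorem good_yoneda (V : D) : Good J u (yonedaT u V) := by
  intro P
  let e₁ : (yoneda.obj (u.obj V) ⟶ P.obj) ≃ P.obj.obj (op (u.obj V)) := yonedaEquiv
  let e₂ : (yoneda.obj V ⟶ u.op ⋙ P.obj) ≃ P.obj.obj (op (u.obj V)) := yonedaEquiv
  have h : ∀ ψ : yoneda.obj (u.obj V) ⟶ P.obj,
      e₂ (yonedaT u V ≫ Functor.whiskerLeft u.op ψ) = e₁ ψ := by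
    intro ψ
    change ψ.app _ (u.map (𝟙 V)) = ψ.app _ (𝟙 (u.obj V))
    rw [u.map_id]
  have h2 : (fun ψ : yoneda.obj (u.obj V) ⟶ P.obj => yonedaT u V ≫ Functor.whiskerLeft u.op ψ) =
      e₂.symm ∘ e₁ := by
    funext ψ
    exact e₂.injective ((h ψ).trans (e₂.apply_symm_apply _).symm)
  rw [h2]
  exact e₂.symm.bijective.comp e₁.bijective

/-- The product of two morphisms. -/
def prodT (t : A ⟶ u.op ⋙ B) (t' : A' ⟶ u.op ⋙ B') :
    FunctorToTypes.prod A A' ⟶ u.op ⋙ FunctorToTypes.prod B B' where
  app W := ↾fun z => (t.app W z.1, t'.app W z.2)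
  naturality W W' i := by
    ext z
    exact Prod.ext (congrArg (fun s => s z.1) (t.naturality i)) (congrArg (fun s => s z.2) (t'.naturality i))

section

variable [u.IsContinuous K J]

variable (J K) in
/-- Sheafify, then take the inverse image. -/
noncomputable def L : (Dᵒᵖ ⥤ Type u) ⥤ Sheaf J (Type u) :=
  presheafToSheaf K (Type u) ⋙ u.sheafPullback (Type u) K J

variable (J K) in
/-- The adjunction. -/
noncomputable def adjL : L J K u ⊣ u.sheafPushforwardContinuous (Type u) K J ⋙ sheafToPresheaf K (Type u) :=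
  (sheafificationAdjunction K (Type u)).comp (u.sheafAdjunctionContinuous (Type u) K J)

variable (J) in
/-- The comparison morphism. -/
noncomputable def cmp (K : GrothendieckTopology D) [u.IsContinuous K J] (t : A ⟶ u.op ⋙ B) :
    (L J K u).obj A ⟶ (presheafToSheaf J (Type u)).obj B :=
  ((adjL J K u).homEquiv A ((presheafToSheaf J (Type u)).obj B)).symm
    (t ≫ Functor.whiskerLeft u.op ((sheafificationAdjunction J (Type u)).unit.app B))

theorem homEquiv_cmp_comp (t : A ⟶ u.op ⋙ B) {P : Sheaf J (Type u)}
    (φ : (presheafToSheaf J (Type u)).obj B ⟶ P) :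
    (adjL J K u).homEquiv A P (cmp J u K t ≫ φ) =
      t ≫ Functor.whiskerLeft u.op ((sheafificationAdjunction J (Type u)).homEquiv B P φ) := by
  rw [Adjunction.homEquiv_naturality_right, cmp, Equiv.apply_symm_apply, Adjunction.homEquiv_unit]
  rfl

theorem good_iff (K : GrothendieckTopology D) [u.IsContinuous K J] (t : A ⟶ u.op ⋙ B) :
    Good J u t ↔ IsIso (cmp J u K t) := by
  have key : ∀ P : Sheaf J (Type u), (fun ψ : B ⟶ P.obj => t ≫ Functor.whiskerLeft u.op ψ) =
      (adjL J K u).homEquiv A P ∘ (fun φ => cmp J u K t ≫ φ) ∘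
        ((sheafificationAdjunction J (Type u)).homEquiv B P).symm := by
    intro P
    funext ψ
    simp only [Function.comp_apply]
    rw [homEquiv_cmp_comp, Equiv.apply_symm_apply]
  rw [isIso_iff_coyoneda_map_bijective]
  refine forall_congr' (fun P => ?_)
  rw [key]
  exact Iff.trans (Equiv.comp_bijective _ ((adjL J K u).homEquiv A P))
    (Equiv.bijective_comp ((sheafificationAdjunction J (Type u)).homEquiv B P).symm _)

theorem cmp_natural {t : A ⟶ u.op ⋙ B} {t' : A' ⟶ u.op ⋙ B'} (a : A ⟶ A') (b : B ⟶ B')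
    (h : a ≫ t' = t ≫ Functor.whiskerLeft u.op b) :
    (L J K u).map a ≫ cmp J u K t' = cmp J u K t ≫ (presheafToSheaf J (Type u)).map b := by
  have e : (sheafificationAdjunction J (Type u)).homEquiv _ _ ((presheafToSheaf J (Type u)).map b) =
      b ≫ (sheafificationAdjunction J (Type u)).unit.app B' := by
    rw [Adjunction.homEquiv_unit]
    exact ((sheafificationAdjunction J (Type u)).unit.naturality b).symm
  apply ((adjL J K u).homEquiv _ _).injective
  rw [homEquiv_cmp_comp, Adjunction.homEquiv_naturality_left, cmp, Equiv.apply_symm_apply, ← Category.assoc, h,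
    Category.assoc, e]
  rfl

instance [PreservesFiniteLimits (u.sheafPullback (Type u) K J)] : PreservesFiniteLimits (L J K u) :=
  comp_preservesFiniteLimits _ _

theorem good_prod (K : GrothendieckTopology D) [u.IsContinuous K J]
    [PreservesFiniteLimits (u.sheafPullback (Type u) K J)] {t : A ⟶ u.op ⋙ B} {t' : A' ⟶ u.op ⋙ B'}
    (h : Good J u t) (h' : Good J u t') : Good J u (prodT u t t') := by
  rw [good_iff u K] at h h' ⊢
  have h1 := mapIsLimitOfPreservesOfIsLimit (L J K u) _ _ (FunctorToTypes.binaryProductLimit A A')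
  have h2 := mapIsLimitOfPreservesOfIsLimit (presheafToSheaf J (Type u)) _ _
    (FunctorToTypes.binaryProductLimit B B')
  have n1 : (L J K u).map FunctorToTypes.prod.fst ≫ cmp J u K t =
      cmp J u K (prodT u t t') ≫ (presheafToSheaf J (Type u)).map FunctorToTypes.prod.fst :=
    cmp_natural u _ _ rfl
  have n2 : (L J K u).map FunctorToTypes.prod.snd ≫ cmp J u K t' =
      cmp J u K (prodT u t t') ≫ (presheafToSheaf J (Type u)).map FunctorToTypes.prod.snd :=
    cmp_natural u _ _ rfl
  let g := BinaryFan.IsLimit.lift' h1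
    ((presheafToSheaf J (Type u)).map FunctorToTypes.prod.fst ≫ inv (cmp J u K t))
    ((presheafToSheaf J (Type u)).map FunctorToTypes.prod.snd ≫ inv (cmp J u K t'))
  have g1 : g.1 ≫ (L J K u).map FunctorToTypes.prod.fst = _ := g.2.1
  have g2 : g.1 ≫ (L J K u).map FunctorToTypes.prod.snd = _ := g.2.2
  refine ⟨g.1, ?_, ?_⟩
  · refine BinaryFan.IsLimit.hom_ext h1 ?_ ?_
    · change (_ ≫ _) ≫ (L J K u).map FunctorToTypes.prod.fst = _ ≫ (L J K u).map FunctorToTypes.prod.fst
      rw [Category.assoc, g1, ← Category.assoc, ← n1, Category.assoc, IsIso.hom_inv_id, Category.comp_id,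
        Category.id_comp]
    · change (_ ≫ _) ≫ (L J K u).map FunctorToTypes.prod.snd = _ ≫ (L J K u).map FunctorToTypes.prod.snd
      rw [Category.assoc, g2, ← Category.assoc, ← n2, Category.assoc, IsIso.hom_inv_id, Category.comp_id,
        Category.id_comp]
  · refine BinaryFan.IsLimit.hom_ext h2 ?_ ?_
    · change (_ ≫ _) ≫ (presheafToSheaf J (Type u)).map FunctorToTypes.prod.fst =
        _ ≫ (presheafToSheaf J (Type u)).map FunctorToTypes.prod.fst
      rw [Category.assoc, ← n1, ← Category.assoc, g1, Category.assoc, IsIso.inv_hom_id, Category.comp_id,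
        Category.id_comp]
    · change (_ ≫ _) ≫ (presheafToSheaf J (Type u)).map FunctorToTypes.prod.snd =
        _ ≫ (presheafToSheaf J (Type u)).map FunctorToTypes.prod.snd
      rw [Category.assoc, ← n2, ← Category.assoc, g2, Category.assoc, IsIso.inv_hom_id, Category.comp_id,
        Category.id_comp]

end

end K291.GoodPair
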