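import Groth.Agent.ModSite.K291.PullFree
import Groth.Agent.ModSite.K291.FrTens
import Groth.Agent.ModSite.K291.GoodPair
import Groth.Agent.ModSite.K291.Dense

/-!
# Inverse images of modules commute with tensor products

For a morphism of ringed sites `f : (C, O_C) ⟶ (D, O_D)`:
* `del f M N : f^*(M ⊗ N) ⟶ f^* M ⊗ f^* N`, the canonical morphism, with
  `sc (del f M N) _ (pb f (tm m n)) = tm (pb f m) (pb f n)`, natural in both variables;
* `isIso_del`: it is an isomorphism;
* `pullFr`: the inverse image of the free module on a presheaf of sets.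
-/

set_option autoImplicit false

open CategoryTheory MonoidalCategory Limits Opposite

universe w w' v₁ v₂ v₃ u₁ u₂ u₃ u

namespace K291.PullTens

open Groth.Agent.Dcoh K291.Mon K291.Colim K291.Flat K291.FreeOn K291.PullFree K291.Tens

variable {C D : Type u} [SmallCategory C] [SmallCategory D] {J : GrothendieckTopology C}
    {K : GrothendieckTopology D} {O_C : Sheaf J CommRingCat.{u}} {O_D : Sheaf K CommRingCat.{u}}
    (f : ModSite.RMor O_C O_D)

section Ext

variable {M N P : ModSite.Mod O_D} {F : ModSite.Mod O_C}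

theorem pull_tens_ext {φ ψ : f.pull.obj (M ⊗ N) ⟶ F}
    (h : ∀ (V : D) (m : ModSite.sect M V) (n : ModSite.sect N V),
      sc φ (f.fn.obj V) (pb f (tm m n)) = sc ψ (f.fn.obj V) (pb f (tm m n))) : φ = ψ := by
  apply (f.adj.homEquiv (M ⊗ N) F).injective
  refine tens_hom_ext (fun V m n => ?_)
  apply (pushSec f F V).injective
  rw [homEquiv_sec, homEquiv_sec, h]

theorem pull_fr_ext {A : Dᵒᵖ ⥤ Type u} {φ ψ : f.pull.obj ((Fr O_D).obj A) ⟶ F}
    (h : ∀ (V : D) (a : A.obj (op V)),
      sc φ (f.fn.obj V) (pb f (fg a)) = sc ψ (f.fn.obj V) (pb f (fg a))) : φ = ψ := by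
  apply (f.adj.homEquiv ((Fr O_D).obj A) F).injective
  refine fr_hom_ext (fun V a => ?_)
  apply (pushSec f F V).injective
  rw [homEquiv_sec, homEquiv_sec, h]

end Ext

section Del

variable (M N : ModSite.Mod O_D)

/-- The bilinear map `(m, n) ↦ f^* m ⊗ f^* n`. -/
noncomputable def bil : Bil M N (f.push.obj (f.pull.obj M ⊗ f.pull.obj N)) where
  b {V} m n := (pushSec f _ V).symm (tm (pb f m) (pb f n))
  add_left {V} m m' n := by rw [pb_add, add_tm, map_add]
  add_right {V} m n n' := by rw [pb_add, tm_add, map_add]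
  smul_left {V} r m n := by
    rw [pb_smul, smul_tm]
    rfl
  smul_right {V} r m n := by
    rw [pb_smul, tm_smul]
    rfl
  res {U V} g m n := by
    apply (pushSec f _ V).injective
    rw [pushSec_rs, AddEquiv.apply_symm_apply, AddEquiv.apply_symm_apply, rs_tm, pb_rs, pb_rs]

/-- The canonical morphism `f^*(M ⊗ N) ⟶ f^* M ⊗ f^* N`. -/
noncomputable def del : f.pull.obj (M ⊗ N) ⟶ f.pull.obj M ⊗ f.pull.obj N :=
  (f.adj.homEquiv _ _).symm (tdesc (bil f M N))

variable {M N}

theorem sc_del {V : D} (m : ModSite.sect M V) (n : ModSite.sect N V) :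
    sc (del f M N) (f.fn.obj V) (pb f (tm m n)) = tm (pb f m) (pb f n) := by
  rw [del, homEquiv_symm_pb, sc_tdesc_tm]
  exact (pushSec f _ V).apply_symm_apply _

theorem del_natural_left {M' : ModSite.Mod O_D} (g : M ⟶ M') :
    f.pull.map (g ▷ N) ≫ del f M' N = del f M N ≫ f.pull.map g ▷ f.pull.obj N := by
  refine pull_tens_ext f (fun V m n => ?_)
  rw [sc_comp, sc_comp, map_pb, sc_whiskerRight_tm, sc_del, sc_del, sc_whiskerRight_tm, map_pb]

theorem del_natural_right {N' : ModSite.Mod O_D} (g : N ⟶ N') :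
    f.pull.map (M ◁ g) ≫ del f M N' = del f M N ≫ f.pull.obj M ◁ f.pull.map g := by
  refine pull_tens_ext f (fun V m n => ?_)
  rw [sc_comp, sc_comp, map_pb, sc_whiskerLeft_tm, sc_del, sc_del, sc_whiskerLeft_tm, map_pb]

variable (M N)

/-- Naturality in the left variable. -/
noncomputable def delR : tensorRight N ⋙ f.pull ⟶ f.pull ⋙ tensorRight (f.pull.obj N) where
  app M := del f M N
  naturality _ _ g := del_natural_left f g

/-- Naturality in the right variable. -/
noncomputable def delL : tensorLeft M ⋙ f.pull ⟶ f.pull ⋙ tensorLeft (f.pull.obj M) where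
  app N := del f M N
  naturality _ _ g := del_natural_right f g

end Del

section Free

open GoodPair

variable {A A' : Dᵒᵖ ⥤ Type u} {B B' : Cᵒᵖ ⥤ Type u}

/-- The sheaf of sets underlying a module. -/
noncomputable def setSh (F : ModSite.Mod O_C) : Sheaf J (Type u) where
  obj := (toSet O_C).obj F
  property := ((sheafCompose J (forget AddCommGrpCat.{u})).obj (ModSite.toAb F)).property

/-- The morphism `f^* (Fr A) ⟶ Fr B` attached to `A ⟶ u^* B`. -/
noncomputable def pullFrHom (t : A ⟶ f.fn.op ⋙ B) : f.pull.obj ((Fr O_D).obj A) ⟶ (Fr O_C).obj B :=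
  (f.adj.homEquiv _ _).symm (fdesc (F := f.push.obj ((Fr O_C).obj B))
    (t ≫ Functor.whiskerLeft f.fn.op ((frAdj O_C).unit.app B)))

theorem sc_pullFrHom (t : A ⟶ f.fn.op ⋙ B) {V : D} (a : A.obj (op V)) :
    sc (pullFrHom f t) (f.fn.obj V) (pb f (fg a)) = fg (A := B) (U := f.fn.obj V) (t.app (op V) a) := by
  rw [pullFrHom, homEquiv_symm_pb, sc_fdesc]
  rfl

theorem isIso_pullFrHom (t : A ⟶ f.fn.op ⋙ B) (ht : Good J f.fn t) : IsIso (pullFrHom f t) := by
  rw [isIso_iff_coyoneda_map_bijective]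
  intro F
  let e₁ : ((Fr O_C).obj B ⟶ F) ≃ (B ⟶ (setSh F).obj) := (frAdj O_C).homEquiv B F
  let e₂ : (f.pull.obj ((Fr O_D).obj A) ⟶ F) ≃ (A ⟶ f.fn.op ⋙ (setSh F).obj) :=
    (f.adj.homEquiv _ F).trans ((frAdj O_D).homEquiv A (f.push.obj F))
  have h : (fun x => pullFrHom f t ≫ x) =
      e₂.symm ∘ (fun ψ : B ⟶ (setSh F).obj => t ≫ Functor.whiskerLeft f.fn.op ψ) ∘ e₁ := by
    funext x
    apply e₂.injective
    refine Eq.trans ?_ (e₂.apply_symm_apply _).symm
    ext V a
    have h1 : (e₂ (pullFrHom f t ≫ x)).app V a =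
        sc (pullFrHom f t ≫ x) (f.fn.obj V.unop) (pb f (fg a)) :=
      (homEquiv_fg (f.adj.homEquiv _ F (pullFrHom f t ≫ x)) (U := V.unop) a).trans
        (homEquiv_sec f (pullFrHom f t ≫ x) (fg a))
    refine h1.trans ?_
    rw [sc_comp, sc_pullFrHom]
    exact (homEquiv_fg x (U := f.fn.obj V.unop) (t.app V a)).symm
  rw [h]
  exact (e₂.symm.bijective.comp (ht (setSh F))).comp e₁.bijective

theorem del_fr (t : A ⟶ f.fn.op ⋙ B) (t' : A' ⟶ f.fn.op ⋙ B') :
    f.pull.map (frTens O_D A A').hom ≫ del f ((Fr O_D).obj A) ((Fr O_D).obj A') ≫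
      (pullFrHom f t ⊗ₘ pullFrHom f t') = pullFrHom f (prodT f.fn t t') ≫ (frTens O_C B B').hom := by
  refine pull_fr_ext f (fun V z => ?_)
  rw [sc_comp, sc_comp, sc_comp, map_pb, sc_frTens, sc_del, sc_tensor_tm, sc_pullFrHom, sc_pullFrHom,
    sc_pullFrHom]
  have h := sc_frTens (O := O_C) (A := B) (B := B') (U := f.fn.obj V)
    ((prodT f.fn t t').app (op V) z : (FunctorToTypes.prod B B').obj (op (f.fn.obj V)))
  exact h.symm

theorem isIso_del_fr (t : A ⟶ f.fn.op ⋙ B) (t' : A' ⟶ f.fn.op ⋙ B') (h : Good J f.fn t)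
    (h' : Good J f.fn t') : IsIso (del f ((Fr O_D).obj A) ((Fr O_D).obj A')) := by
  have i1 := isIso_pullFrHom f t h
  have i2 := isIso_pullFrHom f t' h'
  have i3 := isIso_pullFrHom f (prodT f.fn t t') (good_prod f.fn K h h')
  have e := del_fr f t t'
  have i4 : IsIso (f.pull.map (frTens O_D A A').hom ≫ del f ((Fr O_D).obj A) ((Fr O_D).obj A') ≫
      (pullFrHom f t ⊗ₘ pullFrHom f t')) := by
    rw [e]
    infer_instance
  have i5 := IsIso.of_isIso_comp_left (f.pull.map (frTens O_D A A').hom)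
    (del f ((Fr O_D).obj A) ((Fr O_D).obj A') ≫ (pullFrHom f t ⊗ₘ pullFrHom f t'))
  exact IsIso.of_isIso_comp_right _ (pullFrHom f t ⊗ₘ pullFrHom f t')

theorem isIso_del_of_iso {M M' N N' : ModSite.Mod O_D} (e : M ≅ M') (e' : N ≅ N')
    (h : IsIso (del f M N)) : IsIso (del f M' N') := by
  have h1 : IsIso (del f M' N) := by
    have := del_natural_left f (N := N) e.hom
    have i : IsIso (f.pull.map (e.hom ▷ N) ≫ del f M' N) := by
      rw [this]
      infer_instance
    exact IsIso.of_isIso_comp_left (f.pull.map (e.hom ▷ N)) _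
  have := del_natural_right f (M := M') e'.hom
  have i : IsIso (f.pull.map (M' ◁ e'.hom) ≫ del f M' N') := by
    rw [this]
    infer_instance
  exact IsIso.of_isIso_comp_left (f.pull.map (M' ◁ e'.hom)) _

end Free

instance isIso_del (M N : ModSite.Mod O_D) : IsIso (del f M N) := by
  have h0 : ∀ V W : D, IsIso (del f (ModSite.freeOn O_D V) (ModSite.freeOn O_D W)) := fun V W =>
    isIso_del_of_iso f (freeOnIso O_D V).symm (freeOnIso O_D W).symm
      (isIso_del_fr f _ _ (GoodPair.good_yoneda f.fn V) (GoodPair.good_yoneda f.fn W))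
  have h1 : ∀ (V : D) (N : ModSite.Mod O_D), IsIso (del f (ModSite.freeOn O_D V) N) := by
    intro V N
    have := Dense.isIso_of_freeOn (delL f (ModSite.freeOn O_D V)) (fun W => h0 V W)
    exact inferInstanceAs (IsIso ((delL f (ModSite.freeOn O_D V)).app N))
  have := Dense.isIso_of_freeOn (delR f N) (fun V => h1 V N)
  exact inferInstanceAs (IsIso ((delR f N).app M))

/-- `f^*(M ⊗ N) ≅ f^* M ⊗ f^* N`. -/
noncomputable def pullTensIso (M N : ModSite.Mod O_D) :
    f.pull.obj (M ⊗ N) ≅ f.pull.obj M ⊗ f.pull.obj N := asIso (del f M N)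

/-- `f^*(- ⊗ N) ≅ f^* - ⊗ f^* N`. -/
noncomputable def pullTensRightIso (N : ModSite.Mod O_D) :
    tensorRight N ⋙ f.pull ≅ f.pull ⋙ tensorRight (f.pull.obj N) :=
  NatIso.ofComponents (fun M => pullTensIso f M N) (fun g => del_natural_left f g)

/-- `f^*(M ⊗ -) ≅ f^* M ⊗ f^* -`. -/
noncomputable def pullTensLeftIso (M : ModSite.Mod O_D) :
    tensorLeft M ⋙ f.pull ≅ f.pull ⋙ tensorLeft (f.pull.obj M) :=
  NatIso.ofComponents (fun N => pullTensIso f M N) (fun g => del_natural_right f g)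

/-- `f_* ℋom(f^* N, -) ≅ ℋom(N, f_* -)`. -/
noncomputable def pushHomIso (N : ModSite.Mod O_D) [ModSite.HasSheafHom (f.pull.obj N)] [ModSite.HasSheafHom N] :
    ModSite.sheafHom (f.pull.obj N) ⋙ f.push ≅ f.push ⋙ ModSite.sheafHom N :=
  conjugateIsoEquiv (f.adj.comp (ModSite.sheafHomAdj (f.pull.obj N)))
    ((ModSite.sheafHomAdj N).comp f.adj) (pullTensRightIso f N)

end K291.PullTens
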