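import Groth.Agent.ModSite.K291.Tens2
import Groth.Agent.ModSite.K291.PullTens
import Groth.Agent.ModSite.K293.PullUnit

/-!
# Inverse image of modules is a symmetric monoidal functor

For every morphism of ringed sites `f`, `f.pull` is a (strong) braided monoidal functor for the monoidal structures
of `K291.Mon`, with `δ = K291.PullTens.del` and `η = K293.PullUnit.pullUnitIso` (scoped instances `pullMonoidal`,
`pullBraided`; `open scoped K291.PullMon`).
-/

set_option autoImplicit false

open CategoryTheory MonoidalCategory Limits Opposite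

universe w w' v₁ v₂ v₃ u₁ u₂ u₃ u

namespace K291.PullMon

open Groth.Agent.Dcoh K291.Mon K291.Colim K291.Flat K291.FreeOn K291.PullFree K291.Tens K291.PullTens

variable {C D : Type u} [SmallCategory C] [SmallCategory D] {J : GrothendieckTopology C}
    {K : GrothendieckTopology D} {O_C : Sheaf J CommRingCat.{u}} {O_D : Sheaf K CommRingCat.{u}}
    (f : ModSite.RMor O_C O_D)

/-- `f^* O_D ⟶ O_C`. -/
noncomputable def eta : f.pull.obj (𝟙_ (ModSite.Mod O_D)) ⟶ 𝟙_ (ModSite.Mod O_C) :=
  (K293.PullUnit.pullUnitIso f).hom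

instance isIso_eta : IsIso (eta f) := inferInstanceAs (IsIso (K293.PullUnit.pullUnitIso f).hom)

theorem sc_eta {V : D} (r : Rg O_D V) :
    sc (eta f) (f.fn.obj V) (pb f (ofR r)) = ofR (shp f V r) := by
  have h := K293.PullUnit.homEquiv_pullUnitIso_hom f
  have h2 := homEquiv_sec f (M := ModSite.unit O_D) (F := ModSite.unit O_C) (eta f) (V := V) (ofR r)
  rw [← h2]
  refine (congrArg (fun t => pushSec f (ModSite.unit O_C) V (sc t V (ofR r))) h).trans ?_
  rfl

section Ext

variable {M N P : ModSite.Mod O_D} {F : ModSite.Mod O_C}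

theorem pull_tens3_ext {φ ψ : f.pull.obj ((M ⊗ N) ⊗ P) ⟶ F}
    (h : ∀ (V : D) (m : ModSite.sect M V) (n : ModSite.sect N V) (p : ModSite.sect P V),
      sc φ (f.fn.obj V) (pb f (tm (tm m n) p)) = sc ψ (f.fn.obj V) (pb f (tm (tm m n) p))) : φ = ψ := by
  apply (f.adj.homEquiv ((M ⊗ N) ⊗ P) F).injective
  refine tens3_hom_ext (fun V m n p => ?_)
  apply (pushSec f F V).injective
  rw [homEquiv_sec, homEquiv_sec, h]

end Ext

theorem del_assoc (M N P : ModSite.Mod O_D) :
    del f (M ⊗ N) P ≫ del f M N ▷ f.pull.obj P ≫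
      (α_ (f.pull.obj M) (f.pull.obj N) (f.pull.obj P)).hom =
    f.pull.map (α_ M N P).hom ≫ del f M (N ⊗ P) ≫ f.pull.obj M ◁ del f N P := by
  refine pull_tens3_ext f (fun V m n p => ?_)
  rw [sc_comp, sc_comp, sc_comp, sc_comp, sc_del, sc_whiskerRight_tm, sc_del, sc_assoc_tm, map_pb,
    sc_assoc_tm, sc_del, sc_whiskerLeft_tm, sc_del]

theorem del_leftUnit (M : ModSite.Mod O_D) :
    del f (𝟙_ (ModSite.Mod O_D)) M ≫ eta f ▷ f.pull.obj M ≫ (λ_ (f.pull.obj M)).hom =
      f.pull.map (λ_ M).hom := by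
  refine pull_tens_ext f (fun V r m => ?_)
  obtain ⟨r', hr⟩ := exists_ofR r
  rw [hr]
  rw [sc_comp, sc_comp, sc_del, sc_whiskerRight_tm, sc_eta, sc_leftUnitor_tm, map_pb, sc_leftUnitor_tm, pb_smul]

theorem del_rightUnit (M : ModSite.Mod O_D) :
    del f M (𝟙_ (ModSite.Mod O_D)) ≫ f.pull.obj M ◁ eta f ≫ (ρ_ (f.pull.obj M)).hom =
      f.pull.map (ρ_ M).hom := by
  refine pull_tens_ext f (fun V m r => ?_)
  obtain ⟨r', hr⟩ := exists_ofR r
  rw [hr]
  rw [sc_comp, sc_comp, sc_del, sc_whiskerLeft_tm, sc_eta, sc_rightUnitor_tm, map_pb, sc_rightUnitor_tm, pb_smul]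

theorem del_braiding (M N : ModSite.Mod O_D) :
    f.pull.map (β_ M N).hom ≫ del f N M = del f M N ≫ (β_ (f.pull.obj M) (f.pull.obj N)).hom := by
  refine pull_tens_ext f (fun V m n => ?_)
  rw [sc_comp, sc_comp, map_pb, sc_braiding_tm, sc_del, sc_del, sc_braiding_tm]

/-- `f^*` is oplax monoidal. -/
@[instance_reducible]
noncomputable def pullOplax : f.pull.OplaxMonoidal where
  η := eta f
  δ M N := del f M N
  δ_natural_left g N := (del_natural_left f g).symm
  δ_natural_right N g := (del_natural_right f g).symm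
  oplax_associativity M N P := del_assoc f M N P
  oplax_left_unitality M := by
    have h := del_leftUnit f M
    rw [← cancel_mono (λ_ (f.pull.obj M)).hom, Category.assoc, Category.assoc, h, Iso.inv_hom_id,
      ← Functor.map_comp, Iso.inv_hom_id, CategoryTheory.Functor.map_id]
  oplax_right_unitality M := by
    have h := del_rightUnit f M
    rw [← cancel_mono (ρ_ (f.pull.obj M)).hom, Category.assoc, Category.assoc, h, Iso.inv_hom_id,
      ← Functor.map_comp, Iso.inv_hom_id, CategoryTheory.Functor.map_id]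

/-- `f^*` is monoidal. -/
@[instance_reducible]
noncomputable def pullMonoidal : f.pull.Monoidal :=
  letI := pullOplax f
  haveI : IsIso (Functor.OplaxMonoidal.η f.pull) := isIso_eta f
  haveI : ∀ M N, IsIso (Functor.OplaxMonoidal.δ f.pull M N) := fun M N => isIso_del f M N
  Functor.Monoidal.ofOplaxMonoidal f.pull

attribute [scoped instance] pullMonoidal

theorem η_eq : Functor.OplaxMonoidal.η f.pull = eta f := rfl

theorem δ_eq (M N : ModSite.Mod O_D) : Functor.OplaxMonoidal.δ f.pull M N = del f M N := rfl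

/-- `f^*` is braided. -/
@[instance_reducible]
noncomputable def pullBraided : f.pull.Braided where
  braided M N := by
    rw [← cancel_epi (Functor.OplaxMonoidal.δ f.pull M N), Functor.Monoidal.δ_μ_assoc]
    have h := del_braiding f M N
    rw [← δ_eq, ← δ_eq] at h
    rw [← reassoc_of% h, Functor.Monoidal.δ_μ, Category.comp_id]

attribute [scoped instance] pullBraided

end K291.PullMon
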