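import Groth.Agent.ModSite.K294.AcycFlat
import Mathlib.Algebra.Homology.CochainComplexOpposite

/-!
# Acyclic bounded below chain complexes of flat modules stay acyclic after tensoring
-/

set_option autoImplicit false

open CategoryTheory MonoidalCategory Limits Opposite HomologicalComplex

universe v u w

namespace K291.AcycFlat

section

variable {A : Type w} [Category.{v} A] [Abelian A]

/-- chain complexes indexed by `ℤ` and the associated cochain complexes: exactness. -/
theorem exactAt_restriction_iff (M : ChainComplex A ℤ) (n : ℤ) :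
    (M.restriction ComplexShape.embeddingUpIntDownInt).ExactAt n ↔ M.ExactAt (-n) := by
  rw [exactAt_iff' _ (n - 1) n (n + 1) (by simp) (by simp),
    exactAt_iff' _ (-(n - 1)) (-n) (-(n + 1)) (by simp; omega) (by simp; omega)]
  rfl

theorem acyclic_restriction_iff (M : ChainComplex A ℤ) :
    (M.restriction ComplexShape.embeddingUpIntDownInt).Acyclic ↔ M.Acyclic := by
  constructor
  · intro h n
    have := (exactAt_restriction_iff M (-n)).1 (h (-n))
    rwa [neg_neg] at this
  · intro h n
    exact (exactAt_restriction_iff M n).2 (h _)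

end

variable {C : Type u} [SmallCategory C] {J : GrothendieckTopology C} {O : Sheaf J CommRingCat.{u}}

theorem acyclic_tensor (M : ChainComplex (ModSite.Mod O) ℤ) (F : ModSite.Mod O)
    [((ModSite.tensorBi O).flip.obj F).PreservesZeroMorphisms]
    (hb : ∃ i₀ : ℤ, ∀ i, i < i₀ → IsZero (M.X i)) (hM : ∀ i, ModSite.IsFlat (M.X i)) (hac : M.Acyclic) :
    ((((ModSite.tensorBi O).flip.obj F).mapHomologicalComplex (ComplexShape.down ℤ)).obj M).Acyclic := by
  obtain ⟨i₀, h₀⟩ := hb
  let K : CochainComplex (ModSite.Mod O) ℤ := M.restriction ComplexShape.embeddingUpIntDownInt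
  have hK : ∀ n, ModSite.IsFlat (K.X n) := fun n => hM (-n)
  have hle : K.IsStrictlyLE (-i₀) := by
    rw [CochainComplex.isStrictlyLE_iff]
    intro i hi
    exact h₀ (-i) (by omega)
  have h1 := K294.KFlat2.isKFlat_of_isStrictlyLE K (-i₀) hK
  have h2 : K.Acyclic := (acyclic_restriction_iff M).2 hac
  have h3 := K294.AcycFlat.acyclic_tensor_module h1 h2 F
  rw [← acyclic_restriction_iff]
  exact h3

end K291.AcycFlat
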