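import Groth.Agent.ModSite.K291.Flat

/-!
# Free modules on objects and on presheaves of sets

* `homFreeOn : (ModSite.freeOn O U ⟶ F) ≃ ModSite.sect F U`, naturality, `gen O U`;
* `Fr O : (Cᵒᵖ ⥤ Type u) ⥤ Mod O`, the free module on a presheaf of sets, `frAdj`;
* `freeOnIso : freeOn O U ≅ (Fr O).obj (yoneda.obj U)`;
* `isSeparating`, `isDetecting` for a topologically generating family of objects.
-/

set_option autoImplicit false

open CategoryTheory MonoidalCategory Limits Opposite

universe w w' v₁ v₂ v₃ u₁ u₂ u₃ u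

namespace K291.FreeOn

open Groth.Agent.Dcoh K291.Mon K291.Colim K291.Flat

variable {C : Type u} [SmallCategory C] {J : GrothendieckTopology C} {O : Sheaf J CommRingCat.{u}}

/-- The restriction map on sections. -/
noncomputable def rs (F : ModSite.Mod O) {U V : C} (f : V ⟶ U) : ModSite.sect F U →+ ModSite.sect F V :=
  ((F.val.presheaf).map f.op).hom

theorem rs_id (F : ModSite.Mod O) {U : C} (s : ModSite.sect F U) : rs F (𝟙 U) s = s := by
  simp [rs]
  rfl

theorem rs_comp (F : ModSite.Mod O) {U V W : C} (f : V ⟶ U) (g : W ⟶ V) (s : ModSite.sect F U) :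
    rs F g (rs F f s) = rs F (g ≫ f) s := by
  simp [rs]
  rfl

/-- The ring of sections of `O`, as the ring acting on sections of modules. -/
abbrev Rg (O : Sheaf J CommRingCat.{u}) (U : C) : Type u := (ModSite.ringSh O).obj.obj (op U)

/-- Restriction on `O`. -/
noncomputable abbrev rr (O : Sheaf J CommRingCat.{u}) {U V : C} (f : V ⟶ U) : Rg O U →+* Rg O V :=
  ((ModSite.ringSh O).obj.map f.op).hom

theorem rs_smul (F : ModSite.Mod O) {U V : C} (f : V ⟶ U) (r : Rg O U)
    (s : ModSite.sect F U) : rs F f (r • s) = rr O f r • rs F f s :=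
  F.val.map_smul f.op r s

/-- The map on sections of a morphism. -/
noncomputable def sc {F G : ModSite.Mod O} (φ : F ⟶ G) (U : C) :
    ModSite.sect F U →+ ModSite.sect G U := (φ.val.app (op U)).hom.toAddMonoidHom

theorem sc_smul {F G : ModSite.Mod O} (φ : F ⟶ G) (U : C) (r : Rg O U) (s : ModSite.sect F U) :
    sc φ U (r • s) = r • sc φ U s := (φ.val.app (op U)).hom.map_smul r s

theorem sc_id (F : ModSite.Mod O) (U : C) (s : ModSite.sect F U) : sc (𝟙 F) U s = s := rfl

theorem sc_comp {F G H : ModSite.Mod O} (φ : F ⟶ G) (ψ : G ⟶ H) (U : C) (s : ModSite.sect F U) :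
    sc (φ ≫ ψ) U s = sc ψ U (sc φ U s) := rfl

theorem sc_rs {F G : ModSite.Mod O} (φ : F ⟶ G) {U V : C} (f : V ⟶ U) (s : ModSite.sect F U) :
    sc φ V (rs F f s) = rs G f (sc φ U s) :=
  PresheafOfModules.naturality_apply φ.val f.op s

theorem hom_ext {F G : ModSite.Mod O} {φ ψ : F ⟶ G} (h : ∀ (U : C) (s : ModSite.sect F U),
    sc φ U s = sc ψ U s) : φ = ψ := by
  apply SheafOfModules.hom_ext
  ext U s
  exact h U.unop s

/-- The separation property. -/
theorem sect_ext (F : ModSite.Mod O) {U : C} (S : Sieve U) (hS : S ∈ J U) {s t : ModSite.sect F U}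
    (h : ∀ ⦃V : C⦄ (f : V ⟶ U), S f → rs F f s = rs F f t) : s = t :=
  Presheaf.IsSheaf.isSeparated F.isSheaf U S hS s t (fun _ f hf => h f hf)

/-- The presheaf of sets underlying a module. -/
noncomputable def toSet (O : Sheaf J CommRingCat.{u}) : ModSite.Mod O ⥤ (Cᵒᵖ ⥤ Type u) :=
  toP O ⋙ toPsh O ⋙ (Functor.whiskeringRight _ _ _).obj (forget AddCommGrpCat.{u})

/-- The free module on a presheaf of sets. -/
noncomputable def Fr (O : Sheaf J CommRingCat.{u}) : (Cᵒᵖ ⥤ Type u) ⥤ ModSite.Mod O :=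
  (PresheafOfModules.free (O.obj ⋙ forget₂ CommRingCat.{u} RingCat.{u}) : _ ⥤ PM O) ⋙ shP O

/-- The free module functor is left adjoint to the underlying presheaf of sets. -/
noncomputable def frAdj (O : Sheaf J CommRingCat.{u}) : Fr O ⊣ toSet O :=
  (PresheafOfModules.freeAdjunction (O.obj ⋙ forget₂ CommRingCat.{u} RingCat.{u})).comp (shAdj O)

/-- Morphisms out of the free module on a representable presheaf. -/
noncomputable def homFrY (F : ModSite.Mod O) (U : C) :
    ((Fr O).obj (yoneda.obj U) ⟶ F) ≃ ModSite.sect F U :=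
  ((frAdj O).homEquiv _ _).trans yonedaEquiv

theorem homFrY_comp {F G : ModSite.Mod O} {U : C} (a : (Fr O).obj (yoneda.obj U) ⟶ F) (φ : F ⟶ G) :
    homFrY G U (a ≫ φ) = sc φ U (homFrY F U a) := by
  change yonedaEquiv ((frAdj O).homEquiv _ _ (a ≫ φ)) = _
  rw [(frAdj O).homEquiv_naturality_right, yonedaEquiv_comp]
  rfl

theorem homFrY_map {F : ModSite.Mod O} {U V : C} (f : V ⟶ U) (a : (Fr O).obj (yoneda.obj U) ⟶ F) :
    homFrY F V ((Fr O).map (yoneda.map f) ≫ a) = rs F f (homFrY F U a) := by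
  change yonedaEquiv ((frAdj O).homEquiv _ _ ((Fr O).map (yoneda.map f) ≫ a)) = _
  rw [(frAdj O).homEquiv_naturality_left, ← yonedaEquiv_naturality]
  rfl

section Over

variable (O) (U : C)

/-- Sections of the restriction of `F` to `C/U` are sections over `U`. -/
noncomputable def secOver (F : ModSite.Mod O) :
    ((ModSite.restr O U).obj F).sections ≃ ModSite.sect F U where
  toFun s := s.eval (op (Over.mk (𝟙 U)))
  invFun t := PresheafOfModules.sectionsMk (fun V => rs F V.unop.hom t) (fun V W g => by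
    change rs F g.unop.left (rs F V.unop.hom t) = rs F W.unop.hom t
    rw [rs_comp, Over.w])
  left_inv s := by
    apply PresheafOfModules.sections_ext
    intro V
    have h := PresheafOfModules.sections_property s
      (Over.homMk V.unop.hom : V.unop ⟶ Over.mk (𝟙 U)).op
    exact h
  right_inv t := rs_id F t

theorem secOver_map {F G : ModSite.Mod O} (φ : F ⟶ G) (s : ((ModSite.restr O U).obj F).sections) :
    secOver O U G (SheafOfModules.sectionsMap ((ModSite.restr O U).map φ) s) =
      sc φ U (secOver O U F s) := rfl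

end Over

/-- `Hom(A_U, F) = F(U)`. -/
noncomputable def homFreeOn (F : ModSite.Mod O) (U : C) :
    (ModSite.freeOn O U ⟶ F) ≃ ModSite.sect F U :=
  ((ModSite.extZeroAdj O U).homEquiv _ _).trans
    ((SheafOfModules.unitHomEquiv _).trans (secOver O U F))

theorem homFreeOn_comp {F G : ModSite.Mod O} {U : C} (a : ModSite.freeOn O U ⟶ F) (φ : F ⟶ G) :
    homFreeOn G U (a ≫ φ) = sc φ U (homFreeOn F U a) := by
  unfold homFreeOn
  simp only [Equiv.trans_apply]
  rw [Adjunction.homEquiv_naturality_right, SheafOfModules.unitHomEquiv_comp_apply, secOver_map]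

/-- The generator of `A_U`. -/
noncomputable def gen (O : Sheaf J CommRingCat.{u}) (U : C) : ModSite.sect (ModSite.freeOn O U) U :=
  homFreeOn _ U (𝟙 _)

theorem homFreeOn_apply {F : ModSite.Mod O} {U : C} (a : ModSite.freeOn O U ⟶ F) :
    homFreeOn F U a = sc a U (gen O U) := by
  rw [gen, ← homFreeOn_comp, Category.id_comp]

/-- The morphism out of `A_U` given by a section. -/
noncomputable def ofSec {F : ModSite.Mod O} {U : C} (s : ModSite.sect F U) : ModSite.freeOn O U ⟶ F :=
  (homFreeOn F U).symm s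

@[simp]
theorem sc_ofSec {F : ModSite.Mod O} {U : C} (s : ModSite.sect F U) : sc (ofSec s) U (gen O U) = s := by
  rw [← homFreeOn_apply]
  exact (homFreeOn F U).apply_symm_apply s

theorem freeOn_hom_ext {F : ModSite.Mod O} {U : C} {a b : ModSite.freeOn O U ⟶ F}
    (h : sc a U (gen O U) = sc b U (gen O U)) : a = b :=
  (homFreeOn F U).injective (by rw [homFreeOn_apply, homFreeOn_apply, h])

theorem ofSec_comp {F G : ModSite.Mod O} {U : C} (s : ModSite.sect F U) (φ : F ⟶ G) :
    ofSec s ≫ φ = ofSec (sc φ U s) :=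
  freeOn_hom_ext (by rw [sc_comp, sc_ofSec, sc_ofSec])

/-- The functor `U ↦ A_U` on morphisms. -/
noncomputable def freeOnMap {U V : C} (f : V ⟶ U) : ModSite.freeOn O V ⟶ ModSite.freeOn O U :=
  ofSec (rs _ f (gen O U))

theorem freeOnMap_ofSec {F : ModSite.Mod O} {U V : C} (f : V ⟶ U) (s : ModSite.sect F U) :
    freeOnMap f ≫ ofSec s = ofSec (rs F f s) := by
  rw [freeOnMap, ofSec_comp, sc_rs, sc_ofSec]

/-- `A_U` is the free module on the presheaf represented by `U`. -/
noncomputable def freeOnIso (O : Sheaf J CommRingCat.{u}) (U : C) :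
    ModSite.freeOn O U ≅ (Fr O).obj (yoneda.obj U) where
  hom := ofSec (homFrY _ U (𝟙 _))
  inv := (homFrY _ U).symm (gen O U)
  hom_inv_id := by
    refine freeOn_hom_ext ?_
    rw [sc_comp, sc_ofSec, ← homFrY_comp, Category.id_comp, Equiv.apply_symm_apply]
    rfl
  inv_hom_id := by
    apply (homFrY _ U).injective
    rw [homFrY_comp, Equiv.apply_symm_apply, sc_ofSec]

theorem freeOnIso_hom_naturality {U V : C} (f : V ⟶ U) :
    freeOnMap f ≫ (freeOnIso O U).hom = (freeOnIso O V).hom ≫ (Fr O).map (yoneda.map f) := by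
  refine freeOn_hom_ext ?_
  rw [freeOnMap, freeOnIso, freeOnIso, sc_comp, sc_comp, sc_ofSec, sc_ofSec, sc_rs, sc_ofSec,
    ← homFrY_comp, Category.id_comp, ← homFrY_map, Category.comp_id]

/-- Modules are determined by maps from `A_U` for `U` in a topologically generating family. -/
theorem isSeparating (O : Sheaf J CommRingCat.{u}) (G : Set C)
    (hG : ∀ X : C, ∃ (ι : Type u) (Y : ι → C) (f : ∀ i, Y i ⟶ X),
      Sieve.ofArrows Y f ∈ J X ∧ ∀ i, Y i ∈ G) :
    (ObjectProperty.ofObj fun X : G => ModSite.freeOn O (X : C)).IsSeparating := by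
  intro F H φ ψ h
  apply hom_ext
  intro X s
  obtain ⟨ι, Y₀, f, hf, hY⟩ := hG X
  refine sect_ext H _ hf ?_
  rintro V g ⟨W', a, b, hb, rfl⟩
  obtain ⟨i⟩ := hb
  have h1 := h _ (ObjectProperty.ofObj_apply _ (⟨Y₀ i, hY i⟩ : G)) (ofSec (rs F (f i) s))
  have h2 := congrArg (fun t => sc t (Y₀ i) (gen O (Y₀ i))) h1
  simp only [sc_comp, sc_ofSec] at h2
  rw [← rs_comp, ← rs_comp, ← sc_rs, h2, sc_rs]

theorem isDetecting (O : Sheaf J CommRingCat.{u}) (G : Set C)
    (hG : ∀ X : C, ∃ (ι : Type u) (Y : ι → C) (f : ∀ i, Y i ⟶ X),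
      Sieve.ofArrows Y f ∈ J X ∧ ∀ i, Y i ∈ G) :
    (ObjectProperty.ofObj fun X : G => ModSite.freeOn O (X : C)).IsDetecting :=
  (isSeparating O G hG).isDetecting

end K291.FreeOn
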