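import Groth.Agent.ModSite.K291.Shriek2

/-!
# Internal hom of modules on a ringed site

* `restrHomIso`: `ℋom(M, -)|_X ≅ ℋom(M|_X, (-)|_X)`, natural in the second variable.
-/

set_option autoImplicit false

open CategoryTheory MonoidalCategory Limits Opposite DirectSum

universe u

namespace K291.HomSh

open Groth.Agent.Dcoh K291.Mon K291.Colim K291.Flat K291.FreeOn K291.Restr

variable {C : Type u} [SmallCategory C] {J : GrothendieckTopology C}
  {O : Sheaf J CommRingCat.{u}}

section

variable (X : C) (M : ModSite.Mod O) [ModSite.HasSheafHom M]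
  [ModSite.HasSheafHom ((ModSite.restr O X).obj M)]

/-- `ℋom(M, -)|_X ≅ ℋom(M|_X, (-)|_X)`. -/
noncomputable def restrHomIso : ModSite.sheafHom M ⋙ ModSite.restr O X ≅
    ModSite.restr O X ⋙ ModSite.sheafHom ((ModSite.restr O X).obj M) :=
  conjugateIsoEquiv ((ModSite.extZeroAdj O X).comp (ModSite.sheafHomAdj M))
    ((ModSite.sheafHomAdj ((ModSite.restr O X).obj M)).comp (ModSite.extZeroAdj O X))
    (Shriek.proj O X M)

end

end K291.HomSh
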