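import Groth.Agent.ModSite.K291.FreeOn

/-!
# Pullback of free modules along a morphism of ringed sites

* `pb f m : sect (f.pull.obj M) (f.fn.obj V)`, the pullback of a section, extensionality;
* `pullFreeOn f X : f.pull.obj (freeOn O_D X) ≅ freeOn O_C (f.fn.obj X)`.
-/

set_option autoImplicit false

open CategoryTheory MonoidalCategory Limits Opposite

universe w w' v₁ v₂ v₃ u₁ u₂ u₃ u

namespace K291.PullFree

open Groth.Agent.Dcoh K291.Mon K291.Colim K291.Flat K291.FreeOn

variable {C D : Type u} [SmallCategory C] [SmallCategory D] {J : GrothendieckTopology C}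
    {K : GrothendieckTopology D} {O_C : Sheaf J CommRingCat.{u}} {O_D : Sheaf K CommRingCat.{u}}
    (f : ModSite.RMor O_C O_D)

/-- Sections of the direct image. -/
noncomputable def pushSec (F : ModSite.Mod O_C) (V : D) :
    ModSite.sect (f.push.obj F) V ≃+ ModSite.sect F (f.fn.obj V) where
  toFun s := s
  invFun s := s
  left_inv _ := rfl
  right_inv _ := rfl
  map_add' _ _ := rfl

theorem pushSec_rs (F : ModSite.Mod O_C) {V W : D} (g : W ⟶ V) (s : ModSite.sect (f.push.obj F) V) :
    pushSec f F W (rs _ g s) = rs F (f.fn.map g) (pushSec f F V s) := rfl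

theorem pushSec_sc {F G : ModSite.Mod O_C} (φ : F ⟶ G) (V : D) (s : ModSite.sect (f.push.obj F) V) :
    pushSec f G V (sc (f.push.map φ) V s) = sc φ (f.fn.obj V) (pushSec f F V s) := rfl

/-- The ring map on sections. -/
noncomputable def shp (V : D) : Rg O_D V →+* Rg O_C (f.fn.obj V) := (f.sharpR.hom.app (op V)).hom

theorem pushSec_smul (F : ModSite.Mod O_C) (V : D) (r : Rg O_D V) (s : ModSite.sect (f.push.obj F) V) :
    pushSec f F V (r • s) = shp f V r • pushSec f F V s := rfl

theorem shp_rr {V W : D} (g : W ⟶ V) (r : Rg O_D V) :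
    shp f W (rr O_D g r) = rr O_C (f.fn.map g) (shp f V r) :=
  ConcreteCategory.congr_hom (f.sharpR.hom.naturality g.op) r

variable {M N : ModSite.Mod O_D}

/-- The pullback of a section. -/
noncomputable def pb {V : D} (m : ModSite.sect M V) : ModSite.sect (f.pull.obj M) (f.fn.obj V) :=
  pushSec f _ V (sc (f.adj.unit.app M) V m)

theorem pb_add {V : D} (m n : ModSite.sect M V) : pb f (m + n) = pb f m + pb f n := by
  rw [pb, map_add, map_add]; rfl

theorem pb_zero {V : D} : pb f (0 : ModSite.sect M V) = 0 := by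
  rw [pb, map_zero, map_zero]

theorem pb_smul {V : D} (r : Rg O_D V) (m : ModSite.sect M V) : pb f (r • m) = shp f V r • pb f m := by
  rw [pb, sc_smul, pushSec_smul]; rfl

theorem pb_rs {V W : D} (g : W ⟶ V) (m : ModSite.sect M V) :
    pb f (rs M g m) = rs _ (f.fn.map g) (pb f m) :=
  congrArg (pushSec f _ W) (sc_rs (f.adj.unit.app M) g m)

theorem map_pb (φ : M ⟶ N) {V : D} (m : ModSite.sect M V) :
    sc (f.pull.map φ) (f.fn.obj V) (pb f m) = pb f (sc φ V m) := by
  have h := f.adj.unit.naturality φ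
  have h2 := congrArg (fun t => pushSec f _ V (sc t V m)) h
  exact h2.symm

/-- The morphism adjoint to `φ : f^* M ⟶ F`. -/
theorem homEquiv_sec {F : ModSite.Mod O_C} (φ : f.pull.obj M ⟶ F) {V : D} (m : ModSite.sect M V) :
    pushSec f F V (sc (f.adj.homEquiv M F φ) V m) = sc φ (f.fn.obj V) (pb f m) := by
  rw [Adjunction.homEquiv_unit]
  rfl

theorem homEquiv_symm_pb {F : ModSite.Mod O_C} (ψ : M ⟶ f.push.obj F) {V : D} (m : ModSite.sect M V) :
    sc ((f.adj.homEquiv M F).symm ψ) (f.fn.obj V) (pb f m) = pushSec f F V (sc ψ V m) := by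
  rw [← homEquiv_sec, Equiv.apply_symm_apply]

theorem pull_hom_ext {F : ModSite.Mod O_C} {φ ψ : f.pull.obj M ⟶ F}
    (h : ∀ (V : D) (m : ModSite.sect M V), sc φ (f.fn.obj V) (pb f m) = sc ψ (f.fn.obj V) (pb f m)) :
    φ = ψ := by
  apply (f.adj.homEquiv M F).injective
  apply hom_ext
  intro V m
  apply (pushSec f F V).injective
  rw [homEquiv_sec, homEquiv_sec, h]

variable (X : D)

/-- The pullback of `A_X` is `A_{u(X)}`. -/
noncomputable def pullFreeOn (X : D) :
    f.pull.obj (ModSite.freeOn O_D X) ≅ ModSite.freeOn O_C (f.fn.obj X) where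
  hom := (f.adj.homEquiv _ _).symm (ofSec ((pushSec f _ X).symm (gen O_C (f.fn.obj X))))
  inv := ofSec (pb f (gen O_D X))
  hom_inv_id := by
    apply (f.adj.homEquiv _ _).injective
    refine freeOn_hom_ext ?_
    apply (pushSec f _ X).injective
    rw [homEquiv_sec, homEquiv_sec, sc_comp, homEquiv_symm_pb, sc_ofSec, AddEquiv.apply_symm_apply,
      sc_ofSec, sc_id]
  inv_hom_id := by
    refine freeOn_hom_ext ?_
    rw [sc_comp, sc_ofSec, homEquiv_symm_pb, sc_ofSec, AddEquiv.apply_symm_apply, sc_id]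

theorem pullFreeOn_hom_pb (X : D) :
    sc (pullFreeOn f X).hom (f.fn.obj X) (pb f (gen O_D X)) = gen O_C (f.fn.obj X) := by
  rw [pullFreeOn, homEquiv_symm_pb, sc_ofSec, AddEquiv.apply_symm_apply]

theorem pullFreeOn_inv_gen (X : D) :
    sc (pullFreeOn f X).inv (f.fn.obj X) (gen O_C (f.fn.obj X)) = pb f (gen O_D X) := by
  rw [pullFreeOn, sc_ofSec]

end K291.PullFree
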