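import Groth.Agent.ModSite.K291.FreeOn
import Groth.Agent.Dcoh.MonRes290

/-!
# Restriction of modules to a localised ringed site

* `preR O X`: restriction of presheaves of modules, braided monoidal;
* `shRestr O X : shP O ⋙ restr O X ≅ preR O X ⋙ shP (O.over X)`: restriction commutes with sheafification;
* `restrBraided O X : (restr O X).Braided`, so `(M ⊗ N)|_X ≅ M|_X ⊗ N|_X` naturally.
-/

set_option autoImplicit false

open CategoryTheory MonoidalCategory Limits Opposite

universe w w' v₁ v₂ v₃ u₁ u₂ u₃ u

namespace K291.Restr

open Groth.Agent.Dcoh K291.Mon K291.Colim K291.Flat K291.FreeOn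

variable {C : Type u} [SmallCategory C] {J : GrothendieckTopology C}

section LocBij

variable {A : Type u₁} [Category.{v₁} A] {FA : A → A → Type*} {CA : A → Type w'}
  [∀ X Y, FunLike (FA X Y) (CA X) (CA Y)] [ConcreteCategory A FA] {P Q : Cᵒᵖ ⥤ A} (φ : P ⟶ Q) (X : C)

theorem isLocallyInjective_over [h : Presheaf.IsLocallyInjective J φ] :
    Presheaf.IsLocallyInjective (J.over X) (Functor.whiskerLeft (Over.forget X).op φ) where
  equalizerSieve_mem {Y} x y hxy := by
    rw [J.mem_over_iff]
    refine J.superset_covering ?_ (h.equalizerSieve_mem (X := op Y.unop.left) x y hxy)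
    intro Z g hg
    rw [Sieve.overEquiv_iff]
    exact hg

theorem isLocallySurjective_over [h : Presheaf.IsLocallySurjective J φ] :
    Presheaf.IsLocallySurjective (J.over X) (Functor.whiskerLeft (Over.forget X).op φ) where
  imageSieve_mem {Y} x := by
    rw [J.mem_over_iff]
    refine J.superset_covering ?_ (h.imageSieve_mem (U := Y.left) x)
    intro Z g hg
    rw [Sieve.overEquiv_iff]
    exact hg

end LocBij

variable (O : Sheaf J CommRingCat.{u}) (X : C)

/-- Restriction of presheaves of modules. -/
noncomputable def preR : PM O ⥤ PM (O.over X) :=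
  PresheafOfModules.pushforward₀OfCommRingCat (Over.forget X) O.obj ⋙
    MonRes290.rs (Iso.refl ((Over.forget X).op ⋙ O.obj))

/-- Restriction of presheaves of modules is braided monoidal. -/
@[instance_reducible]
noncomputable def braidedPreR : (preR O X).Braided :=
  inferInstanceAs (PresheafOfModules.pushforward₀OfCommRingCat (Over.forget X) O.obj ⋙
    MonRes290.rs (Iso.refl ((Over.forget X).op ⋙ O.obj))).Braided

/-- Restriction of sheaves and of presheaves agree. -/
noncomputable def restrToP : toP O ⋙ preR O X ≅ ModSite.restr O X ⋙ toP (O.over X) := Iso.refl _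

variable {O}

theorem WO_preR {P Q : PM O} {f : P ⟶ Q} (hf : WO O f) : WO (O.over X) ((preR O X).map f) := by
  change J.W _ at hf
  change (J.over X).W _
  rw [GrothendieckTopology.W_iff_isLocallyBijective] at hf ⊢
  have h1 := hf.1
  have h2 := hf.2
  exact ⟨isLocallyInjective_over ((PresheafOfModules.toPresheaf _).map f) X,
    isLocallySurjective_over ((PresheafOfModules.toPresheaf _).map f) X⟩

variable (O)

instance isIso_shP_preR_unit (P : PM O) :
    IsIso ((shP (O.over X)).map ((preR O X).map ((shAdj O).unit.app P))) :=
  (WO_iff (O.over X) _).1 (WO_preR X (WO_unit O P))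

/-- The natural transformation `shP (P|_X) ⟶ (shP P)|_X`. -/
noncomputable def shRestrHom : preR O X ⋙ shP (O.over X) ⟶ shP O ⋙ ModSite.restr O X :=
  Functor.whiskerRight (Functor.whiskerRight (shAdj O).unit (preR O X)) (shP (O.over X)) ≫
    Functor.whiskerLeft (shP O ⋙ ModSite.restr O X) (shAdj (O.over X)).counit

theorem shRestrHom_app (P : PM O) : (shRestrHom O X).app P =
    (shP (O.over X)).map ((preR O X).map ((shAdj O).unit.app P)) ≫
      (shAdj (O.over X)).counit.app ((ModSite.restr O X).obj ((shP O).obj P)) := rfl

instance isIso_shRestrHom : IsIso (shRestrHom O X) := by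
  have : ∀ P, IsIso ((shRestrHom O X).app P) := fun P => by
    rw [shRestrHom_app]
    have h1 := isIso_shP_preR_unit O X P
    have h2 : IsIso ((shAdj (O.over X)).counit.app ((ModSite.restr O X).obj ((shP O).obj P))) :=
      inferInstance
    exact @IsIso.comp_isIso _ _ _ _ _ _ _ h1 h2
  exact NatIso.isIso_of_isIso_app _

/-- Sheafification commutes with restriction. -/
noncomputable def shRestr : shP O ⋙ ModSite.restr O X ≅ preR O X ⋙ shP (O.over X) :=
  (asIso (shRestrHom O X)).symm

noncomputable instance lift : Localization.Lifting (shP O) (WO O) (preR O X ⋙ shP (O.over X))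
    (ModSite.restr O X) where
  iso := shRestr O X

/-- Restriction of modules is monoidal. -/
@[instance_reducible]
noncomputable def restrMonoidal : (ModSite.restr O X).Monoidal :=
  letI := braidedPreR O X
  Localization.Monoidal.functorMonoidalOfComp (shP O) (WO O) (ModSite.restr O X)
    (preR O X ⋙ shP (O.over X))

/-- Restriction of modules is braided monoidal. -/
@[instance_reducible]
noncomputable def restrBraided : (ModSite.restr O X).Braided :=
  letI := braidedPreR O X
  MonRes290.functorBraidedOfComp (shP O) (WO O) (ModSite.restr O X) (preR O X ⋙ shP (O.over X))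

/-- Restriction commutes with tensor products, naturally in the first variable. -/
noncomputable def restrTensorRight (N : ModSite.Mod O) :
    tensorRight N ⋙ ModSite.restr O X ≅
      ModSite.restr O X ⋙ tensorRight ((ModSite.restr O X).obj N) :=
  letI := restrMonoidal O X
  (NatIso.ofComponents (fun M => Functor.Monoidal.μIso (ModSite.restr O X) M N)
    (fun f => Functor.LaxMonoidal.μ_natural_left (ModSite.restr O X) f N)).symm

/-- `(M ⊗ N)|_X ≅ M|_X ⊗ N|_X`. -/
noncomputable def restrTensor (M N : ModSite.Mod O) :
    (ModSite.restr O X).obj (M ⊗ N) ≅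
      (ModSite.restr O X).obj M ⊗ (ModSite.restr O X).obj N :=
  (restrTensorRight O X N).app M

end K291.Restr
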