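import Groth.Agent.ModSite.K291.Restr
import Groth.Agent.Sga4A.ModShriek
import Mathlib.LinearAlgebra.DirectSum.TensorProduct

/-!
# Extension by zero of modules along `C/X → C`

* `preS O X`: extension by zero of presheaves of modules `U ↦ ⨁_{f : U → X} P(f)`, left adjoint to `preR`;
* `shShriek O X : shP (O.over X) ⋙ extZero O X ≅ preS O X ⋙ shP O`;
* `projPre`, `proj`: the projection formula `j_!(P ⊗ N|_X) ≅ j_! P ⊗ N`, naturally;
* `extZero` preserves monomorphisms, is exact and reflects monomorphisms.
-/

set_option autoImplicit false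

open CategoryTheory MonoidalCategory Limits Opposite DirectSum

universe w w' v₁ v₂ v₃ u₁ u₂ u₃ u

namespace K291.Shriek

open Groth.Agent.Dcoh K291.Mon K291.Colim K291.Flat K291.FreeOn K291.Restr
open Groth.Agent.Sga4A

variable {C : Type u} [SmallCategory C] {J : GrothendieckTopology C}
  (O : Sheaf J CommRingCat.{u}) (X : C)

/-- Extension by zero of presheaves of modules. -/
noncomputable def preS : PM (O.over X) ⥤ PM O :=
  ModShriek.shriek (O.obj ⋙ forget₂ CommRingCat.{u} RingCat.{u}) X

/-- Presheaf-level adjunction. -/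
noncomputable def preAdj : preS O X ⊣ preR O X :=
  ModShriek.adj (O.obj ⋙ forget₂ CommRingCat.{u} RingCat.{u}) X

/-- Extension by zero commutes with sheafification. -/
noncomputable def shShriek : shP (O.over X) ⋙ ModSite.extZero O X ≅ preS O X ⋙ shP O :=
  ((shAdj (O.over X)).comp (ModSite.extZeroAdj O X)).leftAdjointUniq
    (((preAdj O X).comp (shAdj O)).ofNatIsoRight (restrToP O X))

section Proj

variable {O X}

open scoped TensorProduct

/-- The canonical map `j_!(P ⊗ N|_X) ⟶ j_! P ⊗ N` of presheaves of modules. -/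
noncomputable def projPre (P : PM (O.over X)) (N : PM O) :
    (preS O X).obj (P ⊗ (preR O X).obj N) ⟶ (preS O X).obj P ⊗ N :=
  letI := braidedPreR O X
  ((preAdj O X).homEquiv _ _).symm
    ((preAdj O X).unit.app P ▷ (preR O X).obj N ≫ Functor.LaxMonoidal.μ (preR O X) _ _)

theorem projPre_natural_left {P P' : PM (O.over X)} (g : P ⟶ P') (N : PM O) :
    (preS O X).map (g ▷ (preR O X).obj N) ≫ projPre P' N = projPre P N ≫ (preS O X).map g ▷ N := by
  let := braidedPreR O X
  rw [projPre, projPre, ← Adjunction.homEquiv_naturality_left_symm,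
    ← Adjunction.homEquiv_naturality_right_symm]
  congr 1
  rw [Category.assoc, ← Functor.LaxMonoidal.μ_natural_left, ← comp_whiskerRight_assoc,
    ← comp_whiskerRight_assoc]
  congr 2
  exact (preAdj O X).unit.naturality g

theorem projPre_natural_right (P : PM (O.over X)) {N N' : PM O} (g : N ⟶ N') :
    (preS O X).map (P ◁ (preR O X).map g) ≫ projPre P N' = projPre P N ≫ (preS O X).obj P ◁ g := by
  let := braidedPreR O X
  rw [projPre, projPre, ← Adjunction.homEquiv_naturality_left_symm,
    ← Adjunction.homEquiv_naturality_right_symm]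
  congr 1
  rw [Category.assoc, ← Functor.LaxMonoidal.μ_natural_right]
  exact whisker_exchange_assoc ((preAdj O X).unit.app P) ((preR O X).map g) _

/-- The fibre of a presheaf of modules on `C/X`. -/
abbrev fb (P : PM (O.over X)) (U : Cᵒᵖ) (f : U.unop ⟶ X) : Type u := P.obj (op (Over.mk f))

noncomputable instance (P : PM (O.over X)) (U : Cᵒᵖ) (f : U.unop ⟶ X) :
    Module (O.obj.obj U) (fb P U f) :=
  inferInstanceAs (Module ((O.over X).obj.obj (op (Over.mk f))) (P.obj (op (Over.mk f))))

/-- The inclusion of a fibre. -/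
noncomputable def ofP (P : PM (O.over X)) (U : Cᵒᵖ) (f : U.unop ⟶ X) :
    fb P U f →ₗ[O.obj.obj U] ((preS O X).obj P).obj U :=
  ModShriek.of (R := O.obj ⋙ forget₂ CommRingCat.{u} RingCat.{u}) P U f

/-- Pure tensors in a fibre. -/
noncomputable def tmF (P : PM (O.over X)) (N : PM O) (U : Cᵒᵖ) (f : U.unop ⟶ X) (m : fb P U f)
    (n : N.obj U) : fb (P ⊗ (preR O X).obj N) U f :=
  TensorProduct.tmul ((O.over X).obj.obj (op (Over.mk f))) (M := P.obj (op (Over.mk f)))
    (N := ((preR O X).obj N).obj (op (Over.mk f))) m n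

/-- Pure tensors. -/
noncomputable def tmP (A N : PM O) (U : Cᵒᵖ) (m : A.obj U) (n : N.obj U) : (A ⊗ N).obj U :=
  TensorProduct.tmul (O.obj.obj U) m n

theorem μ_preR (A N : PM O) (Y : (Over X)ᵒᵖ) (m : A.obj (op Y.unop.left))
    (n : N.obj (op Y.unop.left)) :
    letI := braidedPreR O X
    ((Functor.LaxMonoidal.μ (preR O X) A N).app Y).hom
      (TensorProduct.tmul ((O.over X).obj.obj Y) (M := ((preR O X).obj A).obj Y)
        (N := ((preR O X).obj N).obj Y) m n) = tmP A N (op Y.unop.left) m n := by
  exact MonRes290.rsμ_tmul (Iso.refl ((Over.forget X).op ⋙ O.obj))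
    ((PresheafOfModules.pushforward₀OfCommRingCat (Over.forget X) O.obj).obj A)
    ((PresheafOfModules.pushforward₀OfCommRingCat (Over.forget X) O.obj).obj N) Y m n

theorem preAdj_symm_app {P : PM (O.over X)} {A : PM O} (ψ : P ⟶ (preR O X).obj A) (U : Cᵒᵖ)
    (f : U.unop ⟶ X) (m : fb P U f) :
    (((((preAdj O X).homEquiv P A).symm ψ).app U).hom (ofP P U f m) : A.obj U) =
      (ψ.app (op (Over.mk f))).hom m := by
  have h : ((preAdj O X).homEquiv P A).symm ψ =
      ModShriek.fromRestr (R := O.obj ⋙ forget₂ CommRingCat.{u} RingCat.{u}) ψ := by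
    apply ((preAdj O X).homEquiv P A).injective
    rw [Equiv.apply_symm_apply, Adjunction.homEquiv_unit]
    ext Y x
    exact (ModShriek.fromRestrApp_of (R := O.obj ⋙ forget₂ CommRingCat.{u} RingCat.{u}) ψ
      (op Y.unop.left) Y.unop.hom x).symm
  rw [h]
  exact ModShriek.fromRestrApp_of (R := O.obj ⋙ forget₂ CommRingCat.{u} RingCat.{u}) ψ U f m

theorem projPre_app (P : PM (O.over X)) (N : PM O) (U : Cᵒᵖ) (f : U.unop ⟶ X)
    (m : fb P U f) (n : N.obj U) :
    ((projPre P N).app U).hom (ofP (P ⊗ (preR O X).obj N) U f (tmF P N U f m n)) =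
      tmP ((preS O X).obj P) N U (ofP P U f m) n := by
  let := braidedPreR O X
  refine (preAdj_symm_app _ U f _).trans ?_
  exact μ_preR ((preS O X).obj P) N (op (Over.mk f)) (ofP P U f m) n

/-- The tensor product of fibres. -/
abbrev TF (P : PM (O.over X)) (N : PM O) (U : Cᵒᵖ) (f : U.unop ⟶ X) : Type u :=
  TensorProduct (O.obj.obj U) (fb P U f) (N.obj U)

noncomputable instance instTF (P : PM (O.over X)) (N : PM O) (U : Cᵒᵖ) :
    ∀ f : U.unop ⟶ X, AddCommMonoid (TF P N U f) := fun _ => inferInstance

theorem bijective_projPre_app (P : PM (O.over X)) (N : PM O) (U : Cᵒᵖ) :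
    Function.Bijective ((projPre P N).app U).hom := by
  classical
  let e := (TensorProduct.directSumLeft (O.obj.obj U) (O.obj.obj U) (fun f : U.unop ⟶ X => fb P U f)
    (N.obj U : Type u)).symm
  have key : ∀ x : DirectSum (U.unop ⟶ X) (TF P N U),
      ((projPre P N).app U).hom x = e x := by
    intro x
    induction x using DirectSum.induction_on with
    | zero => exact (map_zero _).trans (map_zero e).symm
    | add a b ha hb => exact (map_add _ a b).trans ((congrArg₂ (· + ·) ha hb).trans (map_add e a b).symm)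
    | of f z =>
      induction z using TensorProduct.induction_on with
      | zero =>
        rw [map_zero]
        exact (map_zero _).trans (map_zero e).symm
      | add a b ha hb =>
        rw [map_add]
        exact (map_add _ _ _).trans ((congrArg₂ (· + ·) ha hb).trans (map_add e _ _).symm)
      | tmul m n =>
        refine (projPre_app P N U f m n).trans ?_
        exact (TensorProduct.directSumLeft_symm_lof_tmul (O.obj.obj U) (O.obj.obj U) f m n).symm
  have h : ⇑((projPre P N).app U).hom = ⇑e := funext key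
  rw [h]
  exact e.bijective

instance isIso_projPre (P : PM (O.over X)) (N : PM O) : IsIso (projPre P N) := by
  have h : ∀ U : Cᵒᵖ, IsIso (((toPsh O).map (projPre P N)).app U) := by
    intro U
    rw [ConcreteCategory.isIso_iff_bijective]
    exact bijective_projPre_app P N U
  have h2 : IsIso ((toPsh O).map (projPre P N)) := NatIso.isIso_of_isIso_app _
  have h3 : (toPsh O).ReflectsIsomorphisms :=
    inferInstanceAs (PresheafOfModules.toPresheaf.{u}
      (O.obj ⋙ forget₂ CommRingCat.{u} RingCat.{u})).ReflectsIsomorphisms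
  exact isIso_of_reflects_iso _ (toPsh O)

end Proj

section Sheaf

variable (N : ModSite.Mod O)

/-- Every module is the sheafification of its underlying presheaf. -/
noncomputable def toShIso : toP O ⋙ shP O ≅ 𝟭 (ModSite.Mod O) := asIso (shAdj O).counit

/-- `j_!(F) = shP (preS (toP F))`. -/
noncomputable def extZeroIso : ModSite.extZero O X ≅ toP (O.over X) ⋙ preS O X ⋙ shP O :=
  (Functor.leftUnitor _).symm ≪≫
    Functor.isoWhiskerRight (toShIso (O.over X)).symm (ModSite.extZero O X) ≪≫
    Functor.associator _ _ _ ≪≫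
    Functor.isoWhiskerLeft (toP (O.over X)) (shShriek O X)

/-- `preR (toP N) = toP (N|_X)` tensored on the right. -/
noncomputable def tensorRightPreIso :
    tensorRight ((toP (O.over X)).obj ((ModSite.restr O X).obj N)) ⋙ preS O X ≅
      preS O X ⋙ tensorRight ((toP O).obj N) :=
  NatIso.ofComponents (fun P => @asIso _ _ _ _ _ (isIso_projPre P ((toP O).obj N)))
    (fun g => projPre_natural_left g ((toP O).obj N))

/-- The projection formula after sheafification on the left. -/
noncomputable def projSh :
    shP (O.over X) ⋙ tensorRight ((ModSite.restr O X).obj N) ⋙ ModSite.extZero O X ≅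
      shP (O.over X) ⋙ ModSite.extZero O X ⋙ tensorRight N :=
  Functor.isoWhiskerRight (shTensorRightIso ((ModSite.restr O X).obj N)) (ModSite.extZero O X) ≪≫
    Functor.associator _ _ _ ≪≫
    Functor.isoWhiskerLeft (tensorRight ((toP (O.over X)).obj ((ModSite.restr O X).obj N)))
      (shShriek O X) ≪≫
    (Functor.associator _ _ _).symm ≪≫
    Functor.isoWhiskerRight (tensorRightPreIso O X N) (shP O) ≪≫
    Functor.associator _ _ _ ≪≫
    Functor.isoWhiskerLeft (preS O X) (shTensorRightIso N).symm ≪≫
    (Functor.associator _ _ _).symm ≪≫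
    Functor.isoWhiskerRight (shShriek O X).symm (tensorRight N) ≪≫
    Functor.associator _ _ _

/-- The projection formula `j_!(P ⊗ N|_X) ≅ j_! P ⊗ N`, natural in `P`. -/
noncomputable def proj :
    tensorRight ((ModSite.restr O X).obj N) ⋙ ModSite.extZero O X ≅
      ModSite.extZero O X ⋙ tensorRight N :=
  (Functor.leftUnitor _).symm ≪≫
    Functor.isoWhiskerRight (toShIso (O.over X)).symm _ ≪≫
    Functor.associator _ _ _ ≪≫
    Functor.isoWhiskerLeft (toP (O.over X)) (projSh O X N) ≪≫
    (Functor.associator _ _ _).symm ≪≫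
    Functor.isoWhiskerRight (toShIso (O.over X)) _ ≪≫
    Functor.leftUnitor _

/-- `A_X ⊗ N ≅ j_!(N|_X)`. -/
noncomputable def freeOnTensorIso :
    ModSite.freeOn O X ⊗ N ≅ (ModSite.extZero O X).obj ((ModSite.restr O X).obj N) :=
  ((proj O X N).app (ModSite.unit (O.over X))).symm ≪≫
    (ModSite.extZero O X).mapIso (λ_ ((ModSite.restr O X).obj N))

end Sheaf

end K291.Shriek
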