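import Groth.Agent.S9048
import Groth.Agent.ExtSupp.K787.FlatAcyc
import Groth.Agent.ModSite.K294.Flat

/-!
# Internal homs into injective modules are totally acyclic
-/

set_option autoImplicit false

open CategoryTheory MonoidalCategory Limits Opposite

universe u

namespace K291.TotAc

open Groth.Agent.Dcoh

variable {C : Type u} [SmallCategory C] {J : GrothendieckTopology C}
  (O : Sheaf J CommRingCat.{u})

/-- The free module on a sheaf of sets is flat. -/
theorem isFlat_free (K : Cᵒᵖ ⥤ Type u) :
    ModSite.IsFlat ((ModSite.sheafify O).obj ((PresheafOfModules.free (ModSite.ringSh O).obj).obj K)) :=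
  K294.Flat.isFlat_shP _ (fun U => by
    change Module.Flat (O.obj.obj U) (ModuleCat.free _ |>.obj (K.obj U))
    change Module.Flat (O.obj.obj U) (K.obj U →₀ O.obj.obj U)
    infer_instance)

variable {O}

/-- `H^q(K, M) = 0` for `q > 0` as soon as `Ext^q(P, M) = 0` for `P` flat. -/
theorem isTotallyAcyclic (M : ModSite.Mod O) [HasExt.{u} (ModSite.Mod O)]
    (hM : ∀ (X : ModSite.Mod O) (n : ℕ) (x : Abelian.Ext.{u} X M (n + 1)), ModSite.IsFlat X → x = 0) :
    CohCx.IsTotallyAcyclic (ModSite.toAb M) := by
  intro K p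
  obtain ⟨e⟩ := Groth.Agent.S9048.result O K M (p + 1)
  refine ⟨fun a b => ?_⟩
  rw [← e.apply_symm_apply a, ← e.apply_symm_apply b, hM _ p (e.symm a) (isFlat_free O K.obj),
    hM _ p (e.symm b) (isFlat_free O K.obj)]

theorem isTotallyAcyclic_sheafHom (F G : ModSite.Mod O) [ModSite.HasSheafHom F] [Injective G] :
    CohCx.IsTotallyAcyclic (ModSite.toAb ((ModSite.sheafHom F).obj G)) := by
  have := K787.RestrAb.hasEnoughInjectives O
  have : HasExt.{u} (ModSite.Mod O) := hasExt_of_enoughInjectives _
  exact isTotallyAcyclic _ (fun X n x hX => K787.FlatAcyc.ext_sheafHom_eq_zero F G n X hX x)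

end K291.TotAc
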